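import Groth.Agent.WeilNum.K944.Sym
import Groth.Agent.FlatA.DimFin
import Mathlib.LinearAlgebra.FreeModule.PID
import Mathlib.LinearAlgebra.Dimension.RankNullity
import Mathlib.LinearAlgebra.Dimension.Torsion.Finite
import Mathlib.LinearAlgebra.Dimension.Localization
import Mathlib.RingTheory.AdjoinRoot
import Mathlib.RingTheory.KrullDimension.PID

/-!
# The minimal central order: finiteness, rank, dimension
-/

set_option autoImplicit false

open MvPolynomial

namespace K944.WeilNum.Order

open K944.WeilNum.Ker K944.WeilNum.Sym K944.WeilNum.Basic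

universe u

/-- The data of a family of pairwise non conjugate Weil `q`-numbers, with the evaluation map. -/
structure Fam (q : ℕ) {ι : Type} [Fintype ι] {K : ι → Type u} [∀ i, Field (K i)] [∀ i, CharZero (K i)]
    (π : ∀ i, K i) (f : R →ₐ[ℤ] ((i : ι) → K i)) : Prop where
  hq : 0 < q
  int : ∀ i, IsIntegral ℤ (π i)
  weil : ∀ i, ∀ z ∈ (minpoly ℤ (π i)).aroots ℂ, ‖z‖ = Real.sqrt (q : ℝ)
  inj : ∀ i j, minpoly ℤ (π i) = minpoly ℤ (π j) → i = j
  f0 : f (X 0) = π
  f1 : ∀ i, π i * f (X 1) i = (q : K i)

namespace Fam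

set_option linter.unusedSectionVars false

variable {q : ℕ} {ι : Type} [Fintype ι] {K : ι → Type u} [∀ i, Field (K i)] [∀ i, CharZero (K i)]
    {π : ∀ i, K i} {f : R →ₐ[ℤ] ((i : ι) → K i)} (H : Fam q π f)

include H

theorem ne_zero (i : ι) : π i ≠ 0 := ne_zero_of_weil H.hq H.int H.weil i

theorem weilP : IsWeilPoly q (∏ i, minpoly ℤ (π i)) := weil_prod H.int H.weil

theorem aeval_apply (G : Polynomial ℤ) (x : ∀ i, K i) (i : ι) : Polynomial.aeval x G i = Polynomial.aeval (x i) G :=
  (Polynomial.aeval_algHom_apply (Pi.evalAlgHom ℤ K i) x G).symm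

theorem aeval_P : Polynomial.aeval π (∏ i, minpoly ℤ (π i)) = 0 := by
  funext i
  rw [H.aeval_apply, map_prod, Finset.prod_eq_zero (Finset.mem_univ i) (minpoly.aeval ℤ (π i))]
  rfl

theorem aeval_V : Polynomial.aeval (f (X 1)) (∏ i, minpoly ℤ (π i)) = 0 := by
  set P := ∏ i, minpoly ℤ (π i) with hP
  funext i
  rw [H.aeval_apply]
  set n := P.natDegree with hn
  have hW := H.weilP
  have h1 : π i ^ n * Polynomial.aeval (f (X 1) i) P = 0 := by
    have e1 : π i ^ n * Polynomial.aeval (f (X 1) i) P =
        (P.coeff 0 : K i) * Polynomial.aeval (π i) P := by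
      rw [Polynomial.aeval_eq_sum_range, Polynomial.aeval_eq_sum_range, Finset.mul_sum, Finset.mul_sum, ← hn,
        ← Finset.sum_range_reflect (fun k => (P.coeff 0 : K i) * P.coeff k • π i ^ k)]
      refine Finset.sum_congr rfl fun k hk => ?_
      rw [Finset.mem_range] at hk
      have h2 := coeff_eq hW k (by rw [← hn]; omega)
      have h3 : π i ^ n = π i ^ (n - k) * π i ^ k := by rw [← pow_add]; congr 1; omega
      have h4 : π i ^ k * f (X 1) i ^ k = (q : K i) ^ k := by rw [← mul_pow, H.f1]
      have h5 : (P.coeff k : K i) * (q : K i) ^ k = (P.coeff 0 : K i) * (P.coeff (n - k) : K i) := by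
        exact_mod_cast h2
      rw [zsmul_eq_mul, zsmul_eq_mul, show n + 1 - 1 - k = n - k by omega]
      calc π i ^ n * ((P.coeff k : K i) * f (X 1) i ^ k)
          = π i ^ (n - k) * ((P.coeff k : K i) * (π i ^ k * f (X 1) i ^ k)) := by rw [h3]; ring
        _ = _ := by rw [h4, h5]; ring
    have e2 : Polynomial.aeval (π i) P = 0 := by
      rw [← H.aeval_apply, H.aeval_P]; rfl
    rw [e1, e2, mul_zero]
  exact (mul_eq_zero.mp h1).resolve_left (pow_ne_zero _ (H.ne_zero i))

theorem isIntegral_range : ∀ x ∈ f.range, IsIntegral ℤ x := by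
  rintro x ⟨g, rfl⟩
  change IsIntegral ℤ (f g)
  induction g using MvPolynomial.induction_on with
  | C a =>
    have : f (C a) = algebraMap ℤ _ a := by simp
    rw [this]
    exact isIntegral_algebraMap
  | add f g hf hg => rw [map_add]; exact hf.add hg
  | mul_X g i hg =>
    rw [map_mul]
    refine hg.mul ?_
    have hmon := H.weilP.1
    fin_cases i
    · refine ⟨_, hmon, ?_⟩
      rw [← Polynomial.aeval_def]
      change Polynomial.aeval (f (X 0)) _ = 0
      rw [H.f0]
      exact H.aeval_P
    · exact ⟨_, hmon, H.aeval_V⟩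

theorem isIntegral : Algebra.IsIntegral ℤ f.range := by
  refine ⟨fun x => ?_⟩
  have := H.isIntegral_range x.1 x.2
  exact (isIntegral_algHom_iff f.range.val Subtype.val_injective).mp this

theorem finite : Module.Finite ℤ f.range := by
  have := H.isIntegral
  have h2 : Algebra.FiniteType ℤ f.range :=
    Algebra.FiniteType.of_surjective f.rangeRestrict f.rangeRestrict_surjective
  exact Algebra.IsIntegral.finite

theorem torsionFree : Module.IsTorsionFree ℤ f.range := by
  have : Module.IsTorsionFree ℤ ((i : ι) → K i) := inferInstance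
  exact Function.Injective.moduleIsTorsionFree (f.range.val) Subtype.val_injective (fun c x => rfl)

theorem free : Module.Free ℤ f.range := by
  have := H.finite
  have := H.torsionFree
  infer_instance

theorem nontrivial [Nonempty ι] : Nontrivial f.range := inferInstance

theorem algebraMap_injective [Nonempty ι] : Function.Injective (algebraMap ℤ f.range) := by
  intro a b hab
  have h1 := congrArg (fun x : f.range => (x : (i : ι) → K i) (Classical.arbitrary ι)) hab
  simp at h1
  exact h1

theorem ringKrullDim [Nonempty ι] : ringKrullDim f.range = 1 := by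
  have := H.isIntegral
  rw [Groth.Agent.FlatA.DimFin.ringKrullDim_eq_of_isIntegral_of_injective ℤ f.range H.algebraMap_injective]
  exact IsPrincipalIdealRing.ringKrullDim_eq_one ℤ Int.not_isField

/-- the image of `ℤ[x]/P` -/
theorem finrank : Module.finrank ℤ f.range = (∏ i, minpoly ℤ (π i)).natDegree := by
  set P := ∏ i, minpoly ℤ (π i) with hP
  have hW := H.weilP
  have := H.finite
  have := H.torsionFree
  let F' : f.range := ⟨f (X 0), AlgHom.mem_range_self _ _⟩
  have hval : ∀ G : Polynomial ℤ, ((Polynomial.aeval F' G : f.range) : (i : ι) → K i) = Polynomial.aeval π G := by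
    intro G
    have := Polynomial.aeval_algHom_apply f.range.val F' G
    rw [show f.range.val F' = π from H.f0] at this
    exact this.symm
  have hPF : Polynomial.aeval F' P = 0 := Subtype.ext (by rw [hval, H.aeval_P]; rfl)
  let ψ : AdjoinRoot P →ₐ[ℤ] f.range := AdjoinRoot.liftAlgHom P (Algebra.ofId ℤ f.range) F' (by
    rw [← hPF, Polynomial.aeval_def]; rfl)
  have hψ : ∀ G : Polynomial ℤ, ψ (AdjoinRoot.mk P G) = Polynomial.aeval F' G := by
    intro G
    simp only [ψ, AdjoinRoot.liftAlgHom_mk]
    rfl
  have hinj : Function.Injective ψ := by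
    rw [injective_iff_map_eq_zero]
    intro x hx
    obtain ⟨G, rfl⟩ := AdjoinRoot.mk_surjective x
    rw [hψ] at hx
    rw [AdjoinRoot.mk_eq_zero]
    refine prod_dvd H.int H.inj G fun i => ?_
    rw [← H.aeval_apply, ← hval, hx]; rfl
  have hrank : Module.finrank ℤ (LinearMap.range ψ.toLinearMap) = P.natDegree := by
    rw [LinearMap.finrank_range_of_inj hinj, (AdjoinRoot.powerBasis' hW.1).finrank]
    rfl
  have htors : Module.finrank ℤ (f.range ⧸ LinearMap.range ψ.toLinearMap) = 0 := by
    rw [Module.finrank_eq_zero_iff_isTorsion]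
    -- `F' * u = - a_0`
    obtain ⟨u, hu⟩ : ∃ u : Polynomial ℤ, F' * Polynomial.aeval F' u = ((- P.coeff 0 : ℤ) : f.range) := by
      refine ⟨P.divX, ?_⟩
      have h1 := Polynomial.divX_mul_X_add P
      have h2 := congrArg (Polynomial.aeval F') h1
      rw [map_add, map_mul, Polynomial.aeval_X, Polynomial.aeval_C, hPF] at h2
      rw [mul_comm, Int.cast_neg, ← eq_intCast (algebraMap ℤ f.range), ← add_eq_zero_iff_eq_neg]
      exact h2
    intro x
    obtain ⟨x, rfl⟩ := Submodule.mkQ_surjective _ x
    obtain ⟨g, hg⟩ := f.rangeRestrict_surjective x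
    obtain ⟨M, G, hG⟩ := exists_pow q (Ideal.Quotient.mk (I₀ q) g)
    -- transport to range
    have hle' : I₀ q ≤ RingHom.ker f.rangeRestrict.toRingHom := by
      rw [Ideal.span_le, Set.singleton_subset_iff, SetLike.mem_coe, RingHom.mem_ker]
      apply Subtype.ext
      change f (X 0 * X 1 - C (q : ℤ)) = 0
      funext i
      rw [map_sub, map_mul, H.f0, Pi.sub_apply, Pi.mul_apply, H.f1]
      simp
    let fbar : A q →+* f.range := Ideal.Quotient.lift (I₀ q) f.rangeRestrict.toRingHom fun a ha => hle' ha
    have haeval : ∀ G : Polynomial ℤ, fbar (Polynomial.aeval (F q) G) = Polynomial.aeval F' G := by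
      intro G
      have e : (fbar.comp (Polynomial.aeval (F q) : Polynomial ℤ →ₐ[ℤ] A q).toRingHom) =
          (Polynomial.aeval F' : Polynomial ℤ →ₐ[ℤ] f.range).toRingHom := by
        refine Polynomial.ringHom_ext' (RingHom.ext_int _ _) ?_
        simp only [AlgHom.toRingHom_eq_coe, RingHom.coe_comp, RingHom.coe_coe, Function.comp_apply, Polynomial.aeval_X]
        rfl
      exact congrArg (fun f => f G) e
    have h3 := congrArg fbar hG
    rw [map_mul, map_pow, haeval] at h3
    have h4 : F' ^ M * x = Polynomial.aeval F' G := by rw [← h3, ← hg]; rfl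
    have hne : ((- P.coeff 0 : ℤ)) ^ M ≠ 0 := by
      refine pow_ne_zero _ ?_
      rw [neg_ne_zero]
      intro h0
      have h5 := coeff_zero_sq hW
      rw [h0] at h5
      have : (q : ℤ) ^ P.natDegree ≠ 0 := pow_ne_zero _ (by exact_mod_cast H.hq.ne')
      exact this (by rw [← h5]; norm_num)
    refine ⟨⟨_, mem_nonZeroDivisors_of_ne_zero hne⟩, ?_⟩
    change (((- P.coeff 0 : ℤ)) ^ M) • Submodule.mkQ (LinearMap.range ψ.toLinearMap) x = 0
    rw [← map_smul, Submodule.mkQ_apply, Submodule.Quotient.mk_eq_zero]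
    refine ⟨AdjoinRoot.mk P (u ^ M * G), ?_⟩
    rw [AlgHom.toLinearMap_apply, hψ, map_mul, map_pow, ← h4, zsmul_eq_mul, Int.cast_pow, ← hu, mul_pow]
    ring
  have := Submodule.finrank_quotient_add_finrank (LinearMap.range ψ.toLinearMap)
  rw [htors, hrank, zero_add] at this
  exact this.symm

end Fam

end K944.WeilNum.Order
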