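import Groth.Agent.WeilNum.K944.Sym
import Mathlib.RingTheory.Localization.Integral
import Mathlib.FieldTheory.Minpoly.IsIntegrallyClosed

/-!
# Integral Bezout relations between products of distinct minimal polynomials
-/

set_option autoImplicit false

open Polynomial

namespace K944.WeilNum.Bezout

universe u

/-- Coprime over `ℚ` gives an integral Bezout relation. -/
theorem exists_int {P Q : ℤ[X]} (h : IsCoprime (P.map (algebraMap ℤ ℚ)) (Q.map (algebraMap ℤ ℚ))) :
    ∃ (A B : ℤ[X]) (N : ℤ), N ≠ 0 ∧ A * P + B * Q = C N := by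
  obtain ⟨a, b, hab⟩ := h
  obtain ⟨⟨da, hda⟩, ha⟩ := IsLocalization.integerNormalization_map_to_map (nonZeroDivisors ℤ) a
  obtain ⟨⟨db, hdb⟩, hb⟩ := IsLocalization.integerNormalization_map_to_map (nonZeroDivisors ℤ) b
  set A := IsLocalization.integerNormalization (nonZeroDivisors ℤ) a
  set B := IsLocalization.integerNormalization (nonZeroDivisors ℤ) b
  refine ⟨C db * A, C da * B, da * db, mul_ne_zero (nonZeroDivisors.ne_zero hda) (nonZeroDivisors.ne_zero hdb), ?_⟩
  apply Polynomial.map_injective (algebraMap ℤ ℚ) (FaithfulSMul.algebraMap_injective ℤ ℚ)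
  rw [Polynomial.map_add, Polynomial.map_mul, Polynomial.map_mul, Polynomial.map_mul, Polynomial.map_mul,
    Polynomial.map_C, Polynomial.map_C, Polynomial.map_C, ha, hb]
  simp only [zsmul_eq_mul, map_mul, algebraMap_int_eq, eq_intCast]
  have e : ∀ n : ℤ, (n : ℚ[X]) = C (n : ℚ) := fun n => (Polynomial.C_eq_intCast n).symm
  rw [e, e]
  linear_combination (C (da : ℚ) * C (db : ℚ)) * hab

variable {ι : Type} {K : ι → Type u} [∀ i, Field (K i)] [∀ i, CharZero (K i)] {π : ∀ i, K i}

theorem coprime_pair (hint : ∀ i, IsIntegral ℤ (π i))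
    (hinj : ∀ i j, minpoly ℤ (π i) = minpoly ℤ (π j) → i = j) {i j : ι} (hij : i ≠ j) :
    IsCoprime ((minpoly ℤ (π i)).map (algebraMap ℤ ℚ)) ((minpoly ℤ (π j)).map (algebraMap ℤ ℚ)) := by
  have hirr : ∀ i, Irreducible ((minpoly ℤ (π i)).map (algebraMap ℤ ℚ)) := fun i =>
    ((minpoly.monic (hint i)).irreducible_iff_irreducible_map_fraction_map (K := ℚ)).mp (minpoly.irreducible (hint i))
  rw [(hirr i).coprime_iff_not_dvd]
  intro hdvd
  have hassoc := (hirr i).associated_of_dvd (hirr j) hdvd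
  have heq := Polynomial.eq_of_monic_of_associated ((minpoly.monic (hint i)).map _) ((minpoly.monic (hint j)).map _) hassoc
  exact hij (hinj i j (Polynomial.map_injective (algebraMap ℤ ℚ) (FaithfulSMul.algebraMap_injective ℤ ℚ) heq))

theorem exists_int_prod (hint : ∀ i, IsIntegral ℤ (π i))
    (hinj : ∀ i j, minpoly ℤ (π i) = minpoly ℤ (π j) → i = j) (s t : Finset ι) (hst : Disjoint s t) :
    ∃ (A B : ℤ[X]) (N : ℤ), N ≠ 0 ∧ A * (∏ i ∈ s, minpoly ℤ (π i)) + B * (∏ i ∈ t, minpoly ℤ (π i)) = C N := by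
  apply exists_int
  rw [Polynomial.map_prod, Polynomial.map_prod]
  refine IsCoprime.prod_left fun i hi => IsCoprime.prod_right fun j hj => coprime_pair hint hinj ?_
  rintro rfl
  exact (Finset.disjoint_left.mp hst hi) hj

end K944.WeilNum.Bezout
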