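import Mathlib.FieldTheory.Minpoly.Basic
import Mathlib.Analysis.Complex.Basic
import Mathlib.Analysis.Complex.Polynomial.Basic
import Mathlib.Analysis.SpecialFunctions.Pow.Real
import Mathlib.Algebra.Polynomial.Roots
import Mathlib.Tactic

/-!
# The functional equation of a Weil polynomial

For a monic integer polynomial `P` all of whose complex roots have absolute value `√q`, `q > 0`:
`a_k q^k = a_0 a_{n-k}`, and its consequences.
-/

set_option autoImplicit false

open Polynomial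

namespace K944.WeilNum.Basic

open scoped ComplexConjugate

/-- all complex roots have absolute value `√q`. -/
def IsWeilPoly (q : ℕ) (P : ℤ[X]) : Prop :=
  P.Monic ∧ ∀ z ∈ P.aroots ℂ, ‖z‖ = Real.sqrt (q : ℝ)

theorem IsWeilPoly.mul {q : ℕ} {P Q : ℤ[X]} (hP : IsWeilPoly q P) (hQ : IsWeilPoly q Q) :
    IsWeilPoly q (P * Q) := by
  refine ⟨hP.1.mul hQ.1, fun z hz => ?_⟩
  rw [aroots_mul (mul_ne_zero hP.1.ne_zero hQ.1.ne_zero), Multiset.mem_add] at hz
  rcases hz with hz | hz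
  · exact hP.2 z hz
  · exact hQ.2 z hz

theorem IsWeilPoly.one {q : ℕ} : IsWeilPoly q 1 := by
  refine ⟨monic_one, fun z hz => ?_⟩
  simp at hz

theorem IsWeilPoly.prod {q : ℕ} {ι : Type*} (s : Finset ι) (P : ι → ℤ[X]) (h : ∀ i ∈ s, IsWeilPoly q (P i)) :
    IsWeilPoly q (∏ i ∈ s, P i) := by
  classical
  induction s using Finset.induction_on with
  | empty => simpa using IsWeilPoly.one
  | insert a s ha ih =>
    rw [Finset.prod_insert ha]
    exact (h a (Finset.mem_insert_self _ _)).mul (ih fun i hi => h i (Finset.mem_insert_of_mem hi))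

/-- value of the polynomial at a complex point as product over the roots. -/
theorem eval_eq (P : ℤ[X]) (hP : P.Monic) (x : ℂ) :
    (aeval x P) = ((P.aroots ℂ).map fun z => x - z).prod := by
  have hs : Splits (P.map (algebraMap ℤ ℂ)) := IsAlgClosed.splits _
  have h := hs.eq_prod_roots_of_monic (hP.map _)
  rw [aeval_def, ← eval_map, h]
  rw [eval_multiset_prod, Multiset.map_map]
  congr 1
  refine Multiset.map_congr rfl fun z _ => ?_
  simp

theorem card_aroots (P : ℤ[X]) (hP : P.Monic) : Multiset.card (P.aroots ℂ) = P.natDegree := by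
  have hs : Splits (P.map (algebraMap ℤ ℂ)) := IsAlgClosed.splits _
  rw [aroots_def, ← hs.natDegree_eq_card_roots, hP.natDegree_map]

theorem aeval_zero (P : ℤ[X]) : aeval (0 : ℂ) P = ((P.coeff 0 : ℤ) : ℂ) := by
  rw [aeval_def, eval₂_at_zero]; simp

/-- The functional equation `x^n P(q/x) = P(0) P(x)`. -/
theorem functional_eq {q : ℕ} {P : ℤ[X]} (hP : IsWeilPoly q P) (x : ℂ) (hx : x ≠ 0) :
    x ^ P.natDegree * aeval ((q : ℂ) / x) P = aeval (0 : ℂ) P * aeval x P := by
  have hconj : aeval x P = ((P.aroots ℂ).map fun z => x - conj z).prod := by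
    have h1 : aeval x P = conj (aeval (conj x) P) := by
      have := Polynomial.aeval_conj (P.map (Int.castRingHom ℝ)) x
      have e : (algebraMap ℝ ℂ).comp (Int.castRingHom ℝ) = algebraMap ℤ ℂ := RingHom.ext_int _ _
      rw [aeval_def, aeval_def, eval₂_map, eval₂_map, e, ← aeval_def, ← aeval_def] at this
      rw [this, Complex.conj_conj]
    rw [h1, eval_eq P hP.1, map_multiset_prod, Multiset.map_map]
    congr 1
    refine Multiset.map_congr rfl fun z _ => ?_
    simp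
  rw [hconj, eval_eq P hP.1, eval_eq P hP.1, ← card_aroots P hP.1, ← Multiset.prod_map_mul]
  rw [show x ^ Multiset.card (P.aroots ℂ) = ((P.aroots ℂ).map fun _ => x).prod by
    rw [Multiset.map_const', Multiset.prod_replicate], ← Multiset.prod_map_mul]
  congr 1
  refine Multiset.map_congr rfl fun z hz => ?_
  have hz := hP.2 z hz
  have h2 : z * conj z = (q : ℂ) := by
    rw [Complex.mul_conj, Complex.normSq_eq_norm_sq, hz, Real.sq_sqrt (Nat.cast_nonneg q)]
    simp
  rw [mul_sub, mul_div_cancel₀ _ hx, ← h2]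
  ring

theorem coeff_eq {q : ℕ} {P : ℤ[X]} (hP : IsWeilPoly q P) (k : ℕ) (hk : k ≤ P.natDegree) :
    P.coeff k * (q : ℤ) ^ k = P.coeff 0 * P.coeff (P.natDegree - k) := by
  set n := P.natDegree with hn
  let A : ℂ[X] := ∑ k ∈ Finset.range (n + 1), monomial (n - k) ((P.coeff k : ℂ) * (q : ℂ) ^ k)
  have hAx : ∀ x : ℂ, x ≠ 0 → A.eval x = (C ((P.coeff 0 : ℤ) : ℂ) * P.map (algebraMap ℤ ℂ)).eval x := by
    intro x hx
    rw [eval_mul, eval_C, eval_map, ← aeval_def]
    have h0 : aeval (0 : ℂ) P = ((P.coeff 0 : ℤ) : ℂ) := aeval_zero P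
    rw [← h0, ← functional_eq hP x hx, aeval_eq_sum_range, Finset.mul_sum, eval_finsetSum]
    refine Finset.sum_congr rfl fun k hk => ?_
    rw [Finset.mem_range] at hk
    rw [eval_monomial, div_pow, zsmul_eq_mul, ← hn]
    have : x ^ n = x ^ (n - k) * x ^ k := by rw [← pow_add]; congr 1; omega
    rw [this]
    field_simp
  have hA : A = C ((P.coeff 0 : ℤ) : ℂ) * P.map (algebraMap ℤ ℂ) := by
    refine eq_of_infinite_eval_eq _ _ (Set.Infinite.mono (s := {x : ℂ | x ≠ 0}) (fun x hx => hAx x hx) ?_)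
    exact (Set.finite_singleton (0 : ℂ)).infinite_compl
  have h1 := congrArg (fun p => coeff p (n - k)) hA
  rw [coeff_C_mul, coeff_map] at h1
  have h2 : A.coeff (n - k) = (P.coeff k : ℂ) * (q : ℂ) ^ k := by
    simp only [A]
    rw [finsetSum_coeff, Finset.sum_eq_single k]
    · rw [coeff_monomial, if_pos rfl]
    · intro j hj hjk
      rw [Finset.mem_range] at hj
      rw [coeff_monomial, if_neg (by omega)]
    · intro h
      exact absurd (Finset.mem_range.mpr (by omega)) h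
  rw [h2, algebraMap_int_eq, eq_intCast] at h1
  exact_mod_cast h1

theorem coeff_zero_sq {q : ℕ} {P : ℤ[X]} (hP : IsWeilPoly q P) : P.coeff 0 ^ 2 = (q : ℤ) ^ P.natDegree := by
  have := coeff_eq hP P.natDegree le_rfl
  rw [Nat.sub_self, coeff_natDegree, hP.1.leadingCoeff, one_mul] at this
  rw [this, sq]

/-- for even degree `2D`: there is a sign `ε` with `P(0) = ε q^D` and `a_{D-r} = ε q^r a_{D+r}`. -/
theorem exists_sign {q : ℕ} (hq : 0 < q) {P : ℤ[X]} (hP : IsWeilPoly q P) (D : ℕ) (hD : P.natDegree = 2 * D) :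
    ∃ ε : ℤ, (ε = 1 ∨ ε = -1) ∧ P.coeff 0 = ε * (q : ℤ) ^ D ∧
      ∀ r ≤ D, P.coeff (D - r) = ε * ((q : ℤ) ^ r * P.coeff (D + r)) := by
  have hq0 : (q : ℤ) ≠ 0 := by exact_mod_cast hq.ne'
  have h0 := coeff_zero_sq hP
  rw [hD, mul_comm 2 D, pow_mul] at h0
  have key : ∀ ε : ℤ, P.coeff 0 = ε * (q : ℤ) ^ D → ∀ r ≤ D, P.coeff (D - r) = ε * ((q : ℤ) ^ r * P.coeff (D + r)) := by
    intro ε he r hr
    have := coeff_eq hP (D - r) (by omega)
    rw [hD, show 2 * D - (D - r) = D + r by omega, he] at this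
    have e : (q : ℤ) ^ D = (q : ℤ) ^ (D - r) * (q : ℤ) ^ r := by rw [← pow_add]; congr 1; omega
    rw [e] at this
    have hne : (q : ℤ) ^ (D - r) ≠ 0 := pow_ne_zero _ hq0
    apply mul_right_cancel₀ hne
    rw [this]; ring
  rcases sq_eq_sq_iff_eq_or_eq_neg.mp h0 with h | h
  · exact ⟨1, Or.inl rfl, by rw [h, one_mul], key 1 (by rw [h, one_mul])⟩
  · exact ⟨-1, Or.inr rfl, by rw [h, neg_one_mul], key (-1) (by rw [h, neg_one_mul])⟩

/-- no real root: even degree, sign `+`. -/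
theorem of_nonreal {q : ℕ} (hq : 0 < q) {P : ℤ[X]} (hP : IsWeilPoly q P)
    (hnr : ∀ z ∈ P.aroots ℂ, z.im ≠ 0) :
    Even P.natDegree ∧ P.coeff 0 = (q : ℤ) ^ (P.natDegree / 2) ∧
      ∀ r ≤ P.natDegree / 2, P.coeff (P.natDegree / 2 - r) = (q : ℤ) ^ r * P.coeff (P.natDegree / 2 + r) := by
  have hq0 : (q : ℤ) ≠ 0 := by exact_mod_cast hq.ne'
  set s : ℝ := Real.sqrt q with hs
  have hs0 : 0 < s := Real.sqrt_pos.mpr (by exact_mod_cast hq)
  have hs2 : (s : ℂ) * s = q := by
    rw [← Complex.ofReal_mul, Real.mul_self_sqrt (Nat.cast_nonneg q)]; simp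
  have hreal : ∀ t : ℝ, aeval (t : ℂ) P ≠ 0 := by
    intro t ht
    have : (t : ℂ) ∈ P.aroots ℂ := by
      rw [mem_aroots]; exact ⟨hP.1.ne_zero, ht⟩
    exact hnr _ this (by simp)
  have h0 : aeval (0 : ℂ) P = ((P.coeff 0 : ℤ) : ℂ) := aeval_zero P
  have hsC : (s : ℂ) ≠ 0 := by exact_mod_cast hs0.ne'
  have e1 : (q : ℂ) / s = s := by rw [div_eq_iff hsC, hs2]
  have e2 : (q : ℂ) / (-s) = ((-s : ℝ) : ℂ) := by
    rw [div_eq_iff (neg_ne_zero.mpr hsC), Complex.ofReal_neg, neg_mul_neg, hs2]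
  have f1 := functional_eq hP (s : ℂ) hsC
  rw [e1, h0] at f1
  have g1 := mul_right_cancel₀ (hreal s) f1
  have f2 := functional_eq hP (-s : ℂ) (neg_ne_zero.mpr hsC)
  rw [e2, h0, ← Complex.ofReal_neg] at f2
  have g2 := mul_right_cancel₀ (hreal (-s)) f2
  have heven : Even P.natDegree := by
    by_contra hodd
    rw [Nat.not_even_iff_odd] at hodd
    rw [Complex.ofReal_neg, hodd.neg_pow, g1] at g2
    have : ((P.coeff 0 : ℤ) : ℂ) ≠ 0 := by
      rw [← g1]; exact pow_ne_zero _ hsC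
    exact this (by linear_combination -(1/2 : ℂ) * g2)
  obtain ⟨d, hd⟩ := heven
  have hd2 : P.natDegree = 2 * d := by omega
  have hdd : P.natDegree / 2 = d := by omega
  have hc0 : P.coeff 0 = (q : ℤ) ^ d := by
    rw [hd2, pow_mul, sq, hs2] at g1
    exact_mod_cast g1.symm
  obtain ⟨ε, hε, hε0, hεr⟩ := exists_sign hq hP d hd2
  have : ε = 1 := by
    rw [hc0] at hε0
    have : (q : ℤ) ^ d ≠ 0 := pow_ne_zero _ hq0
    exact mul_right_cancel₀ this (by rw [one_mul]; exact hε0.symm)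
  subst this
  rw [hdd]
  refine ⟨⟨d, hd⟩, hc0, fun r hr => ?_⟩
  rw [hεr r hr, one_mul]

end K944.WeilNum.Basic
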