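import Groth.Agent.WeilNum.K944.Ker

/-!
# The symmetric form `h` with `F^D h = P(F)`: regular sequence and kernel
-/

set_option autoImplicit false

open MvPolynomial
open scoped Pointwise

namespace K944.WeilNum.Sym

open K944.WeilNum.Ker K944.WeilNum.Basic

variable {q : ℕ} (hq : 0 < q)

/-- the symmetric form written explicitly -/
noncomputable def h0 (q : ℕ) (P : Polynomial ℤ) (D : ℕ) (ε : ℤ) : A q :=
  (∑ r ∈ Finset.range (D + 1), (P.coeff (D + r) : A q) * F q ^ r) +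
  (ε : A q) * ∑ r ∈ Finset.range D, (P.coeff (D + (r + 1)) : A q) * V q ^ (r + 1)

theorem F_pow_V_pow (q : ℕ) (a b : ℕ) (hab : b ≤ a) : F q ^ a * V q ^ b = (q : A q) ^ b * F q ^ (a - b) := by
  have : F q ^ a = F q ^ (a - b) * F q ^ b := by rw [← pow_add]; congr 1; omega
  rw [this, mul_assoc, ← mul_pow, F_mul_V]; ring

theorem F_pow_mul_h0 (P : Polynomial ℤ) (D : ℕ) (hD : P.natDegree = 2 * D) (ε : ℤ)
    (hr : ∀ r ≤ D, P.coeff (D - r) = ε * ((q : ℤ) ^ r * P.coeff (D + r))) :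
    F q ^ D * h0 q P D ε = Polynomial.aeval (F q) P := by
  rw [h0, Polynomial.aeval_eq_sum_range, hD, mul_add]
  have e1 : F q ^ D * ∑ r ∈ Finset.range (D + 1), (P.coeff (D + r) : A q) * F q ^ r =
      ∑ r ∈ Finset.range (D + 1), (P.coeff (D + r)) • F q ^ (D + r) := by
    rw [Finset.mul_sum]
    refine Finset.sum_congr rfl fun r _ => ?_
    rw [zsmul_eq_mul, pow_add]; ring
  have e2 : F q ^ D * ((ε : A q) * ∑ r ∈ Finset.range D, (P.coeff (D + (r + 1)) : A q) * V q ^ (r + 1)) =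
      ∑ r ∈ Finset.range D, (P.coeff (D - 1 - r)) • F q ^ (D - 1 - r) := by
    rw [Finset.mul_sum, Finset.mul_sum]
    refine Finset.sum_congr rfl fun r hr' => ?_
    rw [Finset.mem_range] at hr'
    have h1 := hr (r + 1) (by omega)
    rw [show D - 1 - r = D - (r + 1) by omega, h1, zsmul_eq_mul]
    have h2 := F_pow_V_pow q D (r + 1) (by omega)
    calc _ = (ε : A q) * (P.coeff (D + (r + 1)) : A q) * (F q ^ D * V q ^ (r + 1)) := by ring
      _ = _ := by rw [h2]; push_cast; ring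
  rw [e1, e2]
  have e3 : ∑ r ∈ Finset.range D, (P.coeff (D - 1 - r)) • F q ^ (D - 1 - r) =
      ∑ r ∈ Finset.range D, (P.coeff r) • F q ^ r :=
    Finset.sum_range_reflect (fun r => (P.coeff r) • F q ^ r) D
  rw [e3, show 2 * D + 1 = D + (D + 1) by omega, add_comm]
  exact (Finset.sum_range_add (fun r => (P.coeff r) • F q ^ r) D (D + 1)).symm

theorem rho_h0 (P : Polynomial ℤ) (D : ℕ) (ε : ℤ) (hε : P.coeff D = ε * P.coeff D) :
    rho q (h0 q P D ε) = (ε : Polynomial (ZMod q)) *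
      (∑ r ∈ Finset.range (D + 1), Polynomial.C ((P.coeff (D + r) : ZMod q)) * Polynomial.X ^ r) := by
  rw [h0, map_add, map_sum, map_mul, map_sum,
    Finset.sum_range_succ' (fun r => Polynomial.C ((P.coeff (D + r) : ZMod q)) * Polynomial.X ^ r), mul_add]
  rw [Finset.sum_range_succ']
  have e1 : ∑ k ∈ Finset.range D, (rho q) ((P.coeff (D + (k + 1)) : A q) * F q ^ (k + 1)) = 0 := by
    refine Finset.sum_eq_zero (fun k _ => ?_)
    rw [map_mul, map_pow, rho_F, zero_pow (by omega), mul_zero]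
  rw [e1, zero_add]
  have e2 : (rho q) ((P.coeff (D + 0) : A q) * F q ^ 0) = (ε : Polynomial (ZMod q)) *
      (Polynomial.C ((P.coeff (D + 0) : ZMod q)) * Polynomial.X ^ 0) := by
    rw [pow_zero, mul_one, pow_zero, mul_one, add_zero, map_intCast, map_intCast]
    rw [← Int.cast_mul, ← hε]
  have e3 : ∑ x ∈ Finset.range D, (rho q) ((P.coeff (D + (x + 1)) : A q) * V q ^ (x + 1)) =
      ∑ k ∈ Finset.range D, Polynomial.C ((P.coeff (D + (k + 1)) : ZMod q)) * Polynomial.X ^ (k + 1) := by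
    refine Finset.sum_congr rfl fun r _ => ?_
    rw [map_mul, map_pow, rho_V, map_intCast, map_intCast]
  have e4 : (rho q) (ε : A q) = (ε : Polynomial (ZMod q)) := map_intCast _ _
  rw [e2, e4, add_comm, e3]

theorem rho_h0_mul_eq_zero (P : Polynomial ℤ) (hP : P.Monic) (D : ℕ) (hD : P.natDegree = 2 * D) (ε : ℤ)
    (hε1 : ε = 1 ∨ ε = -1) (hε : P.coeff D = ε * P.coeff D) (b : Polynomial (ZMod q))
    (hb : b * rho q (h0 q P D ε) = 0) : b = 0 := by
  rw [rho_h0 P D ε hε] at hb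
  set Q := (∑ r ∈ Finset.range (D + 1), Polynomial.C ((P.coeff (D + r) : ZMod q)) * Polynomial.X ^ r) with hQ
  have hQmon : Q.Monic := by
    rw [hQ, Finset.sum_range_succ]
    have : P.coeff (D + D) = 1 := by
      rw [← two_mul, ← hD, Polynomial.coeff_natDegree, hP.leadingCoeff]
    rw [this, Int.cast_one, map_one, one_mul, add_comm]
    refine Polynomial.monic_X_pow_add ?_
    refine (Polynomial.degree_sum_le _ _).trans_lt ?_
    refine (Finset.sup_lt_iff (WithBot.bot_lt_coe D)).mpr ?_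
    intro r hr
    rw [Finset.mem_range] at hr
    exact (Polynomial.degree_C_mul_X_pow_le r _).trans_lt (WithBot.coe_lt_coe.mpr hr)
  have h1 : (ε : Polynomial (ZMod q)) * (b * Q) = 0 := by
    rw [← hb]; ring
  have h2 : b * Q = 0 := by
    rcases hε1 with h | h
    · rw [h] at h1; simpa using h1
    · rw [h] at h1; simpa using h1
  exact hQmon.mul_left_eq_zero_iff.mp h2

/-- package: the symmetric form of a Weil polynomial `P` of degree `2D`. -/
structure Good (q : ℕ) (P : Polynomial ℤ) (D : ℕ) (h : A q) : Prop where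
  weil : IsWeilPoly q P
  deg : P.natDegree = 2 * D
  eq : F q ^ D * h = Polynomial.aeval (F q) P

include hq in
theorem Good.eq_h0 {P : Polynomial ℤ} {D : ℕ} {h : A q} (H : Good q P D h) :
    ∃ ε : ℤ, (ε = 1 ∨ ε = -1) ∧ P.coeff D = ε * P.coeff D ∧
      (∀ r ≤ D, P.coeff (D - r) = ε * ((q : ℤ) ^ r * P.coeff (D + r))) ∧ h = h0 q P D ε := by
  obtain ⟨ε, hε, _, hr⟩ := exists_sign hq H.weil D H.deg
  refine ⟨ε, hε, ?_, hr, ?_⟩
  · have := hr 0 (Nat.zero_le _)
    simpa using this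
  · have h1 := F_pow_mul_h0 P D H.deg ε hr
    rw [← H.eq] at h1
    have : F q ^ D * (h - h0 q P D ε) = 0 := by rw [mul_sub, h1, sub_self]
    exact sub_eq_zero.mp (F_pow_mul_eq_zero hq D this)

include hq in
/-- (B2) `h` is a nonzerodivisor. -/
theorem Good.mul_eq_zero {P : Polynomial ℤ} {D : ℕ} {h : A q} (H : Good q P D h) {x : A q} (hx : h * x = 0) :
    x = 0 := by
  obtain ⟨M, G, hG⟩ := exists_pow q x
  have h1 : Polynomial.aeval (F q) (P * G) = 0 := by
    rw [map_mul, ← H.eq, ← hG]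
    calc _ = F q ^ D * F q ^ M * (h * x) := by ring
      _ = 0 := by rw [hx, mul_zero]
  have h2 := aeval_F_injective _ h1
  have h3 : G = 0 := H.weil.1.mul_right_eq_zero_iff.mp h2
  rw [h3, map_zero] at hG
  exact F_pow_mul_eq_zero hq M hG

include hq in
/-- (B3) `F` is a nonzerodivisor modulo `h`. -/
theorem Good.dvd_of_dvd_F_mul {P : Polynomial ℤ} {D : ℕ} {h : A q} (H : Good q P D h) {x : A q}
    (hx : h ∣ F q * x) : h ∣ x := by
  obtain ⟨b, hb⟩ := hx
  obtain ⟨ε, hε1, hε, _, rfl⟩ := H.eq_h0 hq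
  have h1 : rho q b * rho q (h0 q P D ε) = 0 := by
    rw [← map_mul, mul_comm, ← hb, map_mul, rho_F, zero_mul]
  have h2 := rho_h0_mul_eq_zero P H.weil.1 D H.deg ε hε1 hε _ h1
  obtain ⟨b', rfl⟩ := dvd_of_rho_eq_zero h2
  refine ⟨b', sub_eq_zero.mp (F_mul_eq_zero hq ?_)⟩
  rw [mul_sub, hb]; ring

include hq in
theorem Good.dvd_of_dvd_F_pow_mul {P : Polynomial ℤ} {D : ℕ} {h : A q} (H : Good q P D h) {x : A q} (n : ℕ)
    (hx : h ∣ F q ^ n * x) : h ∣ x := by
  induction n with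
  | zero => rwa [pow_zero, one_mul] at hx
  | succ n ih =>
    rw [pow_succ'] at hx
    rw [mul_assoc] at hx
    exact ih (H.dvd_of_dvd_F_mul hq hx)

include hq in
/-- (B4) -/
theorem Good.dvd_of_poly {P : Polynomial ℤ} {D : ℕ} {h : A q} (H : Good q P D h) {x : A q} {M : ℕ}
    {G : Polynomial ℤ} (hG : F q ^ M * x = Polynomial.aeval (F q) G) (hPG : P ∣ G) : h ∣ x := by
  obtain ⟨G', rfl⟩ := hPG
  refine H.dvd_of_dvd_F_pow_mul hq M ?_
  rw [hG, map_mul, ← H.eq]
  exact ⟨F q ^ D * Polynomial.aeval (F q) G', by ring⟩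

/-- The weakly regular sequence `FV - q, h` in `ℤ[F, V]`. -/
theorem Good.isWeaklyRegular (hq : 0 < q) {P : Polynomial ℤ} {D : ℕ} {h : R}
    (H : Good q P D (Ideal.Quotient.mk (I₀ q) h)) :
    RingTheory.Sequence.IsWeaklyRegular R [X 0 * X 1 - C (q : ℤ), h] := by
  rw [RingTheory.Sequence.isWeaklyRegular_cons_iff, RingTheory.Sequence.isWeaklyRegular_singleton_iff]
  have hne : (X 0 * X 1 - C (q : ℤ) : R) ≠ 0 := by
    intro h0
    have h1 := congrArg (MvPolynomial.aeval (![0, 0] : Fin 2 → ℤ)) h0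
    simp at h1
    omega
  refine ⟨?_, ?_⟩
  · intro a b hab
    exact mul_left_cancel₀ hne hab
  · refine (isSMulRegular_on_quot_iff_lsmul_comap_le _ _).mpr ?_
    intro x hx
    rw [Submodule.mem_comap, LinearMap.lsmul_apply, smul_eq_mul] at hx
    have e : ((X 0 * X 1 - C (q : ℤ) : R) • (⊤ : Submodule R R)) = I₀ q := by
      rw [← Submodule.ideal_span_singleton_smul, smul_eq_mul, Ideal.mul_top]
    rw [e] at hx ⊢
    rw [← Ideal.Quotient.eq_zero_iff_mem, map_mul] at hx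
    exact Ideal.Quotient.eq_zero_iff_mem.mp (H.mul_eq_zero hq hx)

/-! ### the family -/

section Family

universe u
set_option linter.unusedSectionVars false
variable {ι : Type} [Fintype ι] {K : ι → Type u} [∀ i, Field (K i)] [∀ i, CharZero (K i)] {π : ∀ i, K i}

theorem prod_dvd (hint : ∀ i, IsIntegral ℤ (π i))
    (hinj : ∀ i j, minpoly ℤ (π i) = minpoly ℤ (π j) → i = j) (G : Polynomial ℤ)
    (hG : ∀ i, Polynomial.aeval (π i) G = 0) : ∏ i, minpoly ℤ (π i) ∣ G := by
  refine Finset.prod_dvd_of_isRelPrime ?_ fun i _ => minpoly.isIntegrallyClosed_dvd (hint i) (hG i)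
  intro i _ j _ hij
  have hirr : Irreducible (minpoly ℤ (π i)) := minpoly.irreducible (hint i)
  have hirr' : Irreducible (minpoly ℤ (π j)) := minpoly.irreducible (hint j)
  rw [Function.onFun, hirr.isRelPrime_iff_not_dvd]
  intro hdvd
  have hassoc : Associated (minpoly ℤ (π i)) (minpoly ℤ (π j)) := hirr.associated_of_dvd hirr' hdvd
  exact hij (hinj i j (Polynomial.eq_of_monic_of_associated (minpoly.monic (hint i)) (minpoly.monic (hint j)) hassoc))

theorem natDegree_prod (hint : ∀ i, IsIntegral ℤ (π i)) :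
    (∏ i, minpoly ℤ (π i)).natDegree = ∑ i, (minpoly ℤ (π i)).natDegree :=
  Polynomial.natDegree_prod_of_monic _ _ fun i _ => minpoly.monic (hint i)

theorem weil_prod (hint : ∀ i, IsIntegral ℤ (π i))
    (hweil : ∀ i, ∀ z ∈ (minpoly ℤ (π i)).aroots ℂ, ‖z‖ = Real.sqrt (q : ℝ)) :
    IsWeilPoly q (∏ i, minpoly ℤ (π i)) :=
  IsWeilPoly.prod _ _ fun i _ => ⟨minpoly.monic (hint i), hweil i⟩

theorem ne_zero_of_weil (hq : 0 < q) (hint : ∀ i, IsIntegral ℤ (π i))
    (hweil : ∀ i, ∀ z ∈ (minpoly ℤ (π i)).aroots ℂ, ‖z‖ = Real.sqrt (q : ℝ)) (i : ι) : π i ≠ 0 := by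
  intro h0
  have hm : minpoly ℤ (π i) ∣ Polynomial.X := by
    refine minpoly.isIntegrallyClosed_dvd (hint i) ?_
    rw [Polynomial.aeval_X, h0]
  have hw := hweil i
  have hdeg : (minpoly ℤ (π i)).coeff 0 ^ 2 = (q : ℤ) ^ (minpoly ℤ (π i)).natDegree :=
    coeff_zero_sq ⟨minpoly.monic (hint i), hweil i⟩
  have h1 : Polynomial.aeval (0 : K i) (minpoly ℤ (π i)) = 0 := by
    have := minpoly.aeval ℤ (π i)
    rwa [h0] at this ⊢
  rw [Polynomial.aeval_def, Polynomial.eval₂_at_zero, eq_intCast, Int.cast_eq_zero] at h1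
  rw [h1] at hdeg
  have : (q : ℤ) ^ (minpoly ℤ (π i)).natDegree ≠ 0 := pow_ne_zero _ (by exact_mod_cast hq.ne')
  exact this (by rw [← hdeg]; norm_num)

/-- evaluation map to the product -/
theorem ker_eq (hq : 0 < q) (hint : ∀ i, IsIntegral ℤ (π i))
    (hweil : ∀ i, ∀ z ∈ (minpoly ℤ (π i)).aroots ℂ, ‖z‖ = Real.sqrt (q : ℝ))
    (hinj : ∀ i j, minpoly ℤ (π i) = minpoly ℤ (π j) → i = j)
    (D : ℕ) (h : R) (H : Good q (∏ i, minpoly ℤ (π i)) D (Ideal.Quotient.mk (I₀ q) h))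
    (f : R →ₐ[ℤ] ((i : ι) → K i)) (hf0 : f (X 0) = π) (hf1 : ∀ i, π i * f (X 1) i = (q : K i)) :
    RingHom.ker f = Ideal.span {X 0 * X 1 - C (q : ℤ), h} := by
  have hπ := ne_zero_of_weil hq hint hweil
  have hle : I₀ q ≤ RingHom.ker f := by
    rw [Ideal.span_le, Set.singleton_subset_iff, SetLike.mem_coe, RingHom.mem_ker]
    funext i
    rw [map_sub, map_mul, hf0, Pi.sub_apply, Pi.mul_apply, hf1]
    simp
  let fbar : A q →+* ((i : ι) → K i) := Ideal.Quotient.lift (I₀ q) f.toRingHom fun a ha => hle ha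
  have hfbar : ∀ g : R, fbar (Ideal.Quotient.mk _ g) = f g := fun g => rfl
  have hfF : fbar (F q) = π := by rw [F, hfbar, hf0]
  have haeval : ∀ G : Polynomial ℤ, ∀ i, fbar (Polynomial.aeval (F q) G) i = Polynomial.aeval (π i) G := by
    intro G i
    have e : (Pi.evalRingHom K i).comp (fbar.comp (Polynomial.aeval (F q) : Polynomial ℤ →ₐ[ℤ] A q).toRingHom) =
        (Polynomial.aeval (π i) : Polynomial ℤ →ₐ[ℤ] K i).toRingHom := by
      refine Polynomial.ringHom_ext' (RingHom.ext_int _ _) ?_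
      simp only [AlgHom.toRingHom_eq_coe, RingHom.coe_comp, RingHom.coe_coe, Function.comp_apply, Polynomial.aeval_X]
      rw [hfF]; rfl
    exact congrArg (fun f => f G) e
  apply le_antisymm
  · intro g hg
    obtain ⟨M, G, hG⟩ := exists_pow q (Ideal.Quotient.mk (I₀ q) g)
    have hg' : ∀ i, Polynomial.aeval (π i) G = 0 := by
      intro i
      rw [← haeval, ← hG, map_mul, hfbar, RingHom.mem_ker.mp hg, mul_zero]; rfl
    obtain ⟨c, hc⟩ := H.dvd_of_poly hq hG (prod_dvd hint hinj G hg')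
    obtain ⟨c, rfl⟩ := Ideal.Quotient.mk_surjective c
    rw [← map_mul, Ideal.Quotient.eq] at hc
    have : g = (g - h * c) + h * c := by ring
    rw [this]
    refine Ideal.add_mem _ (Ideal.span_mono (by simp) hc) (Ideal.mul_mem_right _ _ (Ideal.subset_span (by simp)))
  · rw [Ideal.span_le]
    intro x hx
    rcases hx with hx | hx
    · subst hx
      exact hle (Ideal.subset_span rfl)
    · rw [Set.mem_singleton_iff] at hx
      subst hx
      rw [SetLike.mem_coe, RingHom.mem_ker]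
      funext i
      have h1 := congrArg (fun y => fbar y i) H.eq
      rw [haeval, map_mul, map_pow, hfF, hfbar, map_prod] at h1
      rw [Finset.prod_eq_zero (Finset.mem_univ i) (minpoly.aeval ℤ (π i))] at h1
      rw [Pi.mul_apply, Pi.pow_apply, mul_eq_zero] at h1
      exact h1.resolve_left (pow_ne_zero _ (hπ i))

end Family

end K944.WeilNum.Sym
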