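import Groth.Agent.WeilNum.K944.Sym
import Groth.Agent.LoccohA.GorBC
import Groth.Agent.LoccohB.GorBasic

/-!
# Gorenstein property of `ℤ[F, V]/(FV - q, h)`
-/

set_option autoImplicit false

open MvPolynomial

namespace K944.WeilNum.Gor

open K944.WeilNum.Ker K944.WeilNum.Sym K944.WeilNum.Basic

universe u

/-- A quotient of a Gorenstein ring by a weakly regular pair is Gorenstein. -/
theorem gor_of_pair {B S : Type u} [CommRing B] [CommRing S] (hB : LocCoh.IsGorensteinRing B) (θ : B →+* S)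
    (hθ : Function.Surjective θ) (a b : B) (hker : RingHom.ker θ = Ideal.span {a, b})
    (ha : ∀ x, a * x = 0 → x = 0) (hb : ∀ x, a ∣ b * x → a ∣ x) : LocCoh.IsGorensteinRing S := by
  have h1 : LocCoh.IsGorensteinRing (B ⧸ Ideal.span {a}) :=
    Groth.Agent.LoccohA.GorBC.isGorensteinRing_quotient_span_singleton hB a (by
      intro x y hxy
      have : a * (x - y) = 0 := by
        rw [mul_sub, sub_eq_zero]; exact hxy
      exact sub_eq_zero.mp (ha _ this))
  have h2 : LocCoh.IsGorensteinRing ((B ⧸ Ideal.span {a}) ⧸ Ideal.span {Ideal.Quotient.mk (Ideal.span {a}) b}) :=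
    Groth.Agent.LoccohA.GorBC.isGorensteinRing_quotient_span_singleton h1 _ (by
      intro x y hxy
      obtain ⟨x, rfl⟩ := Ideal.Quotient.mk_surjective x
      obtain ⟨y, rfl⟩ := Ideal.Quotient.mk_surjective y
      have h3 : Ideal.Quotient.mk (Ideal.span {a}) (b * x) = Ideal.Quotient.mk (Ideal.span {a}) (b * y) := by
        rw [map_mul, map_mul]; exact hxy
      rw [Ideal.Quotient.eq, ← mul_sub, Ideal.mem_span_singleton] at h3
      rw [Ideal.Quotient.eq, Ideal.mem_span_singleton]
      exact hb _ h3)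
  have hle : Ideal.span {a} ≤ RingHom.ker θ := by
    rw [hker]; exact Ideal.span_mono (by simp)
  let θ' : (B ⧸ Ideal.span {a}) →+* S := Ideal.Quotient.lift _ θ fun x hx => hle hx
  have hθ' : Function.Surjective θ' := Ideal.Quotient.lift_surjective_of_surjective _ _ hθ
  have hker' : RingHom.ker θ' = Ideal.span {Ideal.Quotient.mk (Ideal.span {a}) b} := by
    apply le_antisymm
    · intro x hx
      obtain ⟨x, rfl⟩ := Ideal.Quotient.mk_surjective x
      have h4 : x ∈ RingHom.ker θ := hx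
      rw [hker, Ideal.mem_span_pair] at h4
      obtain ⟨c, d, rfl⟩ := h4
      rw [map_add, map_mul, map_mul, Ideal.Quotient.eq_zero_iff_mem.mpr (Ideal.mem_span_singleton_self a),
        mul_zero, zero_add]
      exact Ideal.mul_mem_left _ _ (Ideal.mem_span_singleton_self _)
    · rw [Ideal.span_le, Set.singleton_subset_iff, SetLike.mem_coe, RingHom.mem_ker]
      have h5 : b ∈ RingHom.ker θ := by rw [hker]; exact Ideal.subset_span (by simp)
      exact h5
  exact Groth.Agent.LoccohA.GorBC.isGorensteinRing_of_ringEquiv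
    ((Ideal.quotEquivOfEq hker'.symm).trans (RingHom.quotientKerEquivOfSurjective hθ')) h2

theorem dom : IsDomain (ULift.{u} ℤ) := MulEquiv.isDomain ℤ (ULift.ringEquiv : ULift.{u} ℤ ≃+* ℤ).toMulEquiv

theorem pid : IsPrincipalIdealRing (ULift.{u} ℤ) :=
  IsPrincipalIdealRing.of_surjective (ULift.ringEquiv.symm : ℤ ≃+* ULift.{u} ℤ).toRingHom
    (ULift.ringEquiv.symm : ℤ ≃+* ULift.{u} ℤ).surjective

/-- `ULift ℤ[F, V]` is Gorenstein. -/
theorem gor_ulift : LocCoh.IsGorensteinRing (ULift.{u} R) := by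
  have := pid.{u}
  have := dom.{u}
  have h0 : LocCoh.IsGorensteinRing (ULift.{u} ℤ) :=
    Groth.Agent.LoccohA.GorBC.isGorensteinRing_of_isPrincipalIdealRing _
  have h1 := Groth.Agent.LoccohB.GorBasic.isGorensteinRing_mvPolynomial h0 2
  exact Groth.Agent.LoccohA.GorBC.isGorensteinRing_of_ringEquiv
    ((MvPolynomial.mapEquiv (Fin 2) (ULift.ringEquiv : ULift.{u} ℤ ≃+* ℤ)).trans
      (ULift.ringEquiv.symm : R ≃+* ULift.{u} R)) h1

/-- Quotients of `ℤ[F, V]` by the pair `(FV - q, h)`. -/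
theorem gor_of_good {q : ℕ} (hq : 0 < q) {P : Polynomial ℤ} {D : ℕ} {h : R}
    (H : Good q P D (Ideal.Quotient.mk (I₀ q) h)) {S : Type u} [CommRing S] (θ : R →+* S)
    (hθ : Function.Surjective θ) (hker : RingHom.ker θ = Ideal.span {X 0 * X 1 - C (q : ℤ), h}) :
    LocCoh.IsGorensteinRing S := by
  let e : ULift.{u} R ≃+* R := ULift.ringEquiv
  refine gor_of_pair gor_ulift.{u} (θ.comp e.toRingHom) (hθ.comp e.surjective)
    (e.symm (X 0 * X 1 - C (q : ℤ))) (e.symm h) ?_ ?_ ?_
  · ext x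
    rw [RingHom.mem_ker, Ideal.mem_span_pair]
    have h1 : (θ.comp e.toRingHom) x = θ (e x) := rfl
    rw [h1, ← RingHom.mem_ker, hker, Ideal.mem_span_pair]
    constructor
    · rintro ⟨a, b, hab⟩
      refine ⟨e.symm a, e.symm b, ?_⟩
      rw [← map_mul, ← map_mul, ← map_add, hab, e.symm_apply_apply]
    · rintro ⟨a, b, hab⟩
      refine ⟨e a, e b, ?_⟩
      rw [← hab, map_add, map_mul, map_mul, e.apply_symm_apply, e.apply_symm_apply]
  · intro x hx
    have hne : (X 0 * X 1 - C (q : ℤ) : R) ≠ 0 := by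
      intro h0
      have h1 := congrArg (MvPolynomial.aeval (![0, 0] : Fin 2 → ℤ)) h0
      simp at h1
      omega
    have h2 := congrArg e hx
    rw [map_mul, e.apply_symm_apply, map_zero] at h2
    exact e.injective (by rw [map_zero]; exact (mul_eq_zero.mp h2).resolve_left hne)
  · rintro x ⟨y, hy⟩
    have h2 := congrArg e hy
    rw [map_mul, map_mul, e.apply_symm_apply, e.apply_symm_apply] at h2
    have h3 : (Ideal.Quotient.mk (I₀ q) h) * (Ideal.Quotient.mk (I₀ q) (e x)) = 0 := by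
      rw [← map_mul, h2, Ideal.Quotient.eq_zero_iff_mem]
      exact Ideal.mul_mem_right _ _ (Ideal.subset_span rfl)
    have h4 := H.mul_eq_zero hq h3
    rw [Ideal.Quotient.eq_zero_iff_mem, Ideal.mem_span_singleton] at h4
    obtain ⟨z, hz⟩ := h4
    refine ⟨e.symm z, e.injective ?_⟩
    rw [map_mul, e.apply_symm_apply, e.apply_symm_apply, hz]

end K944.WeilNum.Gor
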