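import Groth.Agent.WeilNum.K944.Padic

/-!
# Ordinarity of a family and the middle coefficient of the product
-/

set_option autoImplicit false

open Polynomial

namespace K944.WeilNum.Ord

open K944.WeilNum.Basic

variable (p : ℕ) [Fact p.Prime]

open scoped Classical in
/-- number of unit roots. -/
noncomputable def un (P : ℤ[X]) : ℕ := Multiset.card ((P.aroots (PadicAlgCl p)).filter fun z => ‖z‖ = 1)

theorem un_mul {P Q : ℤ[X]} (hP : P.Monic) (hQ : Q.Monic) : un p (P * Q) = un p P + un p Q := by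
  classical
  unfold un
  rw [aroots_mul (mul_ne_zero hP.ne_zero hQ.ne_zero), Multiset.filter_add, Multiset.card_add]

theorem un_prod {ι : Type*} (s : Finset ι) (P : ι → ℤ[X]) (hP : ∀ i ∈ s, (P i).Monic) :
    un p (∏ i ∈ s, P i) = ∑ i ∈ s, un p (P i) := by
  classical
  induction s using Finset.induction_on with
  | empty => simp [un]
  | insert a s ha ih =>
    rw [Finset.prod_insert ha, Finset.sum_insert ha, un_mul p (hP a (Finset.mem_insert_self _ _))
      (monic_prod_of_monic _ _ fun i hi => hP i (Finset.mem_insert_of_mem hi)),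
      ih fun i hi => hP i (Finset.mem_insert_of_mem hi)]

/-- at most half of the roots are units -/
theorem two_mul_un_le (e : ℕ) (he : 0 < e) (P : ℤ[X]) (hP : IsWeilPoly (p ^ e) P) : 2 * un p P ≤ P.natDegree := by
  have hp : 0 < p := (Fact.out : p.Prime).pos
  have hpp : Prime (p : ℤ) := Nat.prime_iff_prime_int.mp Fact.out
  obtain ⟨_, h2⟩ := K944.WeilNum.Padic.unit_roots p P hP.1
  have hun : un p P ≤ P.natDegree := by
    unfold un
    rw [← K944.WeilNum.Padic.card_le p P hP.1]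
    exact Multiset.card_le_card (Multiset.filter_le _ _)
  set k := P.natDegree - un p P with hk
  have h3 : ¬ (p : ℤ) ∣ P.coeff k := h2 k (by unfold un at *; omega)
  by_contra hlt
  rw [not_le] at hlt
  have hlow : 2 * k < P.natDegree := by omega
  apply h3
  have h4 := coeff_eq hP k (by omega)
  have h5 := coeff_zero_sq hP
  have hq0 : ((p ^ e : ℕ) : ℤ) ≠ 0 := by exact_mod_cast (pow_pos hp e).ne'
  have h6 : P.coeff k ^ 2 = ((p ^ e : ℕ) : ℤ) ^ (P.natDegree - 2 * k) * P.coeff (P.natDegree - k) ^ 2 := by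
    have h7 : ((p ^ e : ℕ) : ℤ) ^ (2 * k) ≠ 0 := pow_ne_zero _ hq0
    apply mul_right_cancel₀ h7
    have h8 : ((p ^ e : ℕ) : ℤ) ^ (P.natDegree) = ((p ^ e : ℕ) : ℤ) ^ (P.natDegree - 2 * k) * ((p ^ e : ℕ) : ℤ) ^ (2 * k) := by
      rw [← pow_add]; congr 1; omega
    calc P.coeff k ^ 2 * ((p ^ e : ℕ) : ℤ) ^ (2 * k) = (P.coeff k * ((p ^ e : ℕ) : ℤ) ^ k) ^ 2 := by
          rw [mul_pow, ← pow_mul, mul_comm k 2]
      _ = P.coeff 0 ^ 2 * P.coeff (P.natDegree - k) ^ 2 := by rw [h4, mul_pow]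
      _ = _ := by rw [h5, h8]; ring
  have h9 : (p : ℤ) ∣ P.coeff k ^ 2 := by
    rw [h6]
    refine Dvd.dvd.mul_right ?_ _
    push_cast
    rw [← pow_mul]
    exact dvd_pow_self _ (mul_ne_zero he.ne' (by omega))
  exact hpp.dvd_of_dvd_pow h9

open scoped Classical in
theorem family_iff (e : ℕ) (he : 0 < e) {ι : Type*} [Fintype ι] (P : ι → ℤ[X])
    (hP : ∀ i, IsWeilPoly (p ^ e) (P i)) (D : ℕ) (hD : ∑ i, (P i).natDegree = 2 * D) :
    (∀ i, 2 * Multiset.card (((P i).aroots (PadicAlgCl p)).filter fun z => ‖z‖ = 1) = (P i).natDegree) ↔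
      ¬ (p : ℤ) ∣ (∏ i, P i).coeff D := by
  have hdeg : (∏ i, P i).natDegree = 2 * D := by
    rw [natDegree_prod_of_monic _ _ fun i _ => (hP i).1, hD]
  have hW : IsWeilPoly (p ^ e) (∏ i, P i) := IsWeilPoly.prod _ _ fun i _ => hP i
  rw [← K944.WeilNum.Padic.ordinary_iff p e he _ hW D hdeg]
  change (∀ i, 2 * un p (P i) = (P i).natDegree) ↔ 2 * un p (∏ i, P i) = (∏ i, P i).natDegree
  rw [un_prod p _ _ fun i _ => (hP i).1, hdeg, ← hD, Finset.mul_sum,
    Finset.sum_eq_sum_iff_of_le fun i _ => two_mul_un_le p e he _ (hP i)]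
  simp

end K944.WeilNum.Ord
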