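import Groth.Agent.WeilNum.K944.SqGor
import Groth.Agent.Models.H73.NodeLocal

/-!
# Adding one rational Weil number `s`, `s² = q`: not Gorenstein if not ordinary
-/

set_option autoImplicit false

open MvPolynomial

namespace K944.WeilNum.SqNon

open K944.WeilNum.Ker K944.WeilNum.Sym K944.WeilNum.Basic K944.WeilNum.Sq

universe u

/-- positive part of the symmetric form -/
noncomputable def uP (P : Polynomial ℤ) (D : ℕ) : Polynomial ℤ :=
  ∑ r ∈ Finset.range D, Polynomial.C (P.coeff (D + (r + 1))) * Polynomial.X ^ (r + 1)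

theorem h0_eq_uP {q : ℕ} (P : Polynomial ℤ) (D : ℕ) (ε : ℤ) :
    h0 q P D ε = (P.coeff D : A q) + Polynomial.aeval (F q) (uP P D) + (ε : A q) * Polynomial.aeval (V q) (uP P D) := by
  rw [h0, Finset.sum_range_succ', uP, map_sum, map_sum, pow_zero, mul_one, add_zero,
    add_comm (∑ k ∈ Finset.range D, _)]
  congr 1
  · congr 1
    refine Finset.sum_congr rfl fun r _ => ?_
    rw [map_mul, map_pow, Polynomial.aeval_X, Polynomial.aeval_C]; simp
  · congr 1
    refine Finset.sum_congr rfl fun r _ => ?_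
    rw [map_mul, map_pow, Polynomial.aeval_X, Polynomial.aeval_C]; simp

theorem uP_eq_X_mul (P : Polynomial ℤ) (D : ℕ) : ∃ w : Polynomial ℤ, uP P D = Polynomial.X * w := by
  refine ⟨∑ r ∈ Finset.range D, Polynomial.C (P.coeff (D + (r + 1))) * Polynomial.X ^ r, ?_⟩
  rw [uP, Finset.mul_sum]
  exact Finset.sum_congr rfl fun r _ => by ring

theorem uP_monic (P : Polynomial ℤ) (hP : P.Monic) (D : ℕ) (hD : P.natDegree = 2 * D) (hD0 : 0 < D) :
    (uP P D).Monic := by
  obtain ⟨D, rfl⟩ : ∃ d, D = d + 1 := ⟨D - 1, by omega⟩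
  rw [uP, Finset.sum_range_succ, add_comm]
  have : P.coeff (D + 1 + (D + 1)) = 1 := by
    rw [← two_mul, ← hD, Polynomial.coeff_natDegree, hP.leadingCoeff]
  rw [this, map_one, one_mul]
  refine Polynomial.monic_X_pow_add ?_
  refine (Polynomial.degree_sum_le _ _).trans_lt ?_
  refine (Finset.sup_lt_iff (WithBot.bot_lt_coe (D + 1))).mpr ?_
  intro r hr
  rw [Finset.mem_range] at hr
  exact (Polynomial.degree_C_mul_X_pow_le (r + 1) _).trans_lt (WithBot.coe_lt_coe.mpr (by exact_mod_cast Nat.succ_lt_succ hr))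

variable {p : ℕ}

theorem lemK [Fact p.Prime] (u c : Polynomial (ZMod p)) (hu : u.Monic) (n : ZMod p) (δ : Polynomial (ZMod p))
    (h : Polynomial.C n * u = c * (δ * u * Polynomial.X)) : n = 0 := by
  have h1 : u * (Polynomial.C n - c * δ * Polynomial.X) = 0 := by linear_combination h
  have h2 := hu.mul_right_eq_zero_iff.mp h1
  have h3 := congrArg (Polynomial.eval 0) h2
  simpa using h3

/-- The two specialisations of `ℤ[F,V]`. -/
noncomputable def sg (p : ℕ) (a b : Polynomial (ZMod p)) : R →ₐ[ℤ] Polynomial (ZMod p) := MvPolynomial.aeval ![a, b]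

theorem sg0 (a b : Polynomial (ZMod p)) : sg p a b (X 0) = a := by simp [sg]
theorem sg1 (a b : Polynomial (ZMod p)) : sg p a b (X 1) = b := by simp [sg]
theorem sgC (a b : Polynomial (ZMod p)) (n : ℤ) : sg p a b (C n) = (n : Polynomial (ZMod p)) := by simp [sg]

theorem intCast_eq_zero_of_dvd {n : ℤ} (h : (p : ℤ) ∣ n) : (n : Polynomial (ZMod p)) = 0 := by
  obtain ⟨m, rfl⟩ := h
  push_cast
  rw [← Polynomial.C_eq_natCast, CharP.cast_eq_zero, Polynomial.C_0, zero_mul]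

/-- Common hypotheses. -/
structure Ctx (p q : ℕ) (s : ℤ) (P : Polynomial ℤ) (D : ℕ) (ε : ℤ) (h : R) : Prop where
  hp : p.Prime
  hq : 0 < q
  pq : (p : ℤ) ∣ (q : ℤ)
  ps : (p : ℤ) ∣ s
  good : Good q P D (Ideal.Quotient.mk (I₀ q) h)
  hε1 : ε = 1 ∨ ε = -1
  h0 : Ideal.Quotient.mk (I₀ q) h = h0 q P D ε
  pD : (p : ℤ) ∣ P.coeff D

variable {q : ℕ} {s : ℤ} {P : Polynomial ℤ} {D : ℕ} {ε : ℤ} {h : R}

theorem Ctx.D_pos (H : Ctx p q s P D ε h) : 0 < D := by
  rcases Nat.eq_zero_or_pos D with rfl | h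
  · exfalso
    have h1 := H.pD
    have h2 : P.natDegree = 0 := by simpa using H.good.deg
    have h3 : P.coeff 0 = 1 := by
      have := H.good.weil.1.coeff_natDegree
      rwa [h2] at this
    rw [h3] at h1
    have h4 : p ∣ 1 := by exact_mod_cast h1
    exact H.hp.one_lt.ne' (Nat.dvd_one.mp h4)
  · exact h

/-- explicit form of `h` in `ℤ[F,V]`. -/
theorem Ctx.h_eq (H : Ctx p q s P D ε h) : ∃ z : R, h = C (P.coeff D) + Polynomial.aeval (X 0 : R) (uP P D) +
    C ε * Polynomial.aeval (X 1 : R) (uP P D) + (X 0 * X 1 - C (q : ℤ)) * z := by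
  have h1 := H.h0
  have e : ∀ (i : Fin 2) (G : Polynomial ℤ), Ideal.Quotient.mk (I₀ q) (Polynomial.aeval (X i : R) G) =
      Polynomial.aeval (Ideal.Quotient.mk (I₀ q) (X i : R)) G := by
    intro i G
    have e2 : ((Ideal.Quotient.mk (I₀ q)).comp
        (Polynomial.aeval (X i : R) : Polynomial ℤ →ₐ[ℤ] _).toRingHom) =
        (Polynomial.aeval (Ideal.Quotient.mk (I₀ q) (X i : R)) : Polynomial ℤ →ₐ[ℤ] _).toRingHom :=
      Polynomial.ringHom_ext' (RingHom.ext_int _ _) (by simp)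
    exact congrArg (fun f => f G) e2
  rw [h0_eq_uP] at h1
  have h2 : Ideal.Quotient.mk (I₀ q) h = Ideal.Quotient.mk (I₀ q) (C (P.coeff D) + Polynomial.aeval (X 0 : R) (uP P D) +
    C ε * Polynomial.aeval (X 1 : R) (uP P D)) := by
    rw [h1, map_add, map_add, map_mul, e, e]
    simp
  rw [Ideal.Quotient.eq, Ideal.mem_span_singleton] at h2
  obtain ⟨z, hz⟩ := h2
  exact ⟨z, by rw [← hz]; ring⟩

theorem sg_aeval (a b : Polynomial (ZMod p)) (i : Fin 2) (G : Polynomial ℤ) :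
    sg p a b (Polynomial.aeval (X i : R) G) = Polynomial.aeval (sg p a b (X i)) G :=
  (Polynomial.aeval_algHom_apply (sg p a b) (X i) G).symm

theorem aeval_zero_uP (P : Polynomial ℤ) (D : ℕ) : Polynomial.aeval (0 : Polynomial (ZMod p)) (uP P D) = 0 := by
  obtain ⟨w, hw⟩ := uP_eq_X_mul P D
  rw [hw, map_mul, Polynomial.aeval_X, zero_mul]

theorem aeval_X_eq_map (G : Polynomial ℤ) :
    Polynomial.aeval (Polynomial.X : Polynomial (ZMod p)) G = G.map (Int.castRingHom (ZMod p)) := by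
  have e2 : (Polynomial.aeval (Polynomial.X : Polynomial (ZMod p)) : Polynomial ℤ →ₐ[ℤ] _).toRingHom =
      Polynomial.mapRingHom (Int.castRingHom (ZMod p)) :=
    Polynomial.ringHom_ext' (RingHom.ext_int _ _) (by simp)
  exact congrArg (fun f => f G) e2

section S

variable {S : Type u} [CommRing S] (θ : R →+* S) (hθ : Function.Surjective θ)
  (hker : RingHom.ker θ = Ideal.span {X 0 * X 1 - C (q : ℤ), h * (X 0 - C s), h * (X 1 - C s)})

include hker

theorem Ctx.indep_V [Fact p.Prime] (H : Ctx p q s P D ε h) (m₁ m₂ : ℤ) (hθ : Function.Surjective θ)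
    (hm : (p : S) ∣ (m₁ : S) * θ (Polynomial.aeval (X 1 : R) (uP P D)) - (m₂ : S) * θ (Polynomial.aeval (X 0 : R) (uP P D))) :
    (p : ℤ) ∣ m₁ := by
  obtain ⟨w, hw⟩ := hm
  obtain ⟨w, rfl⟩ := hθ w
  have h1 : (C m₁ * Polynomial.aeval (X 1 : R) (uP P D) - C m₂ * Polynomial.aeval (X 0 : R) (uP P D) -
      C (p : ℤ) * w) ∈ RingHom.ker θ := by
    rw [RingHom.mem_ker, map_sub, map_sub, map_mul, map_mul, map_mul]
    have e : ∀ n : ℤ, θ (C n) = (n : S) := fun n => by
      rw [show (C n : R) = (n : R) by simp, map_intCast]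
    rw [e, e, e, hw]
    simp
  rw [hker, Ideal.mem_span_insert] at h1
  obtain ⟨a, z, hz, h2⟩ := h1
  rw [Ideal.mem_span_pair] at hz
  obtain ⟨b, c, rfl⟩ := hz
  have h3 := congrArg (sg p 0 Polynomial.X) h2
  simp only [map_sub, map_add, map_mul, sg0, sg1, sgC, sg_aeval, aeval_zero_uP] at h3
  rw [intCast_eq_zero_of_dvd H.pq, intCast_eq_zero_of_dvd H.ps, intCast_eq_zero_of_dvd (dvd_refl (p : ℤ)),
    aeval_X_eq_map] at h3
  obtain ⟨z, hz⟩ := H.h_eq
  have h4 : sg p 0 Polynomial.X h = (ε : Polynomial (ZMod p)) * (uP P D).map (Int.castRingHom (ZMod p)) := by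
    rw [hz]
    simp only [map_sub, map_add, map_mul, sg0, sg1, sgC, sg_aeval, aeval_zero_uP]
    rw [intCast_eq_zero_of_dvd H.pq, intCast_eq_zero_of_dvd H.pD, aeval_X_eq_map]
    ring
  rw [h4] at h3
  have h5 := lemK ((uP P D).map (Int.castRingHom (ZMod p))) (sg p 0 Polynomial.X c)
    ((uP_monic P H.good.weil.1 D H.good.deg H.D_pos).map _) (m₁ : ZMod p) (ε : Polynomial (ZMod p)) (by
      rw [Polynomial.C_eq_intCast]
      linear_combination h3)
  exact (ZMod.intCast_zmod_eq_zero_iff_dvd _ _).mp h5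

theorem Ctx.indep_F [Fact p.Prime] (H : Ctx p q s P D ε h) (m₁ m₂ : ℤ) (hθ : Function.Surjective θ)
    (hm : (p : S) ∣ (m₁ : S) * θ (Polynomial.aeval (X 1 : R) (uP P D)) - (m₂ : S) * θ (Polynomial.aeval (X 0 : R) (uP P D))) :
    (p : ℤ) ∣ m₂ := by
  obtain ⟨w, hw⟩ := hm
  obtain ⟨w, rfl⟩ := hθ w
  have h1 : (C m₁ * Polynomial.aeval (X 1 : R) (uP P D) - C m₂ * Polynomial.aeval (X 0 : R) (uP P D) -
      C (p : ℤ) * w) ∈ RingHom.ker θ := by
    rw [RingHom.mem_ker, map_sub, map_sub, map_mul, map_mul, map_mul]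
    have e : ∀ n : ℤ, θ (C n) = (n : S) := fun n => by
      rw [show (C n : R) = (n : R) by simp, map_intCast]
    rw [e, e, e, hw]
    simp
  rw [hker, Ideal.mem_span_insert] at h1
  obtain ⟨a, z, hz, h2⟩ := h1
  rw [Ideal.mem_span_pair] at hz
  obtain ⟨b, c, rfl⟩ := hz
  have h3 := congrArg (sg p Polynomial.X 0) h2
  simp only [map_sub, map_add, map_mul, sg0, sg1, sgC, sg_aeval, aeval_zero_uP] at h3
  rw [intCast_eq_zero_of_dvd H.pq, intCast_eq_zero_of_dvd H.ps, intCast_eq_zero_of_dvd (dvd_refl (p : ℤ)),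
    aeval_X_eq_map] at h3
  obtain ⟨z, hz⟩ := H.h_eq
  have h4 : sg p Polynomial.X 0 h = (1 : Polynomial (ZMod p)) * (uP P D).map (Int.castRingHom (ZMod p)) := by
    rw [hz]
    simp only [map_sub, map_add, map_mul, sg0, sg1, sgC, sg_aeval, aeval_zero_uP]
    rw [intCast_eq_zero_of_dvd H.pq, intCast_eq_zero_of_dvd H.pD, aeval_X_eq_map]
    ring
  rw [h4] at h3
  have h5 := lemK ((uP P D).map (Int.castRingHom (ZMod p))) (-sg p Polynomial.X 0 b)
    ((uP_monic P H.good.weil.1 D H.good.deg H.D_pos).map _) (m₂ : ZMod p) (1 : Polynomial (ZMod p)) (by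
      rw [Polynomial.C_eq_intCast]
      linear_combination -h3)
  exact (ZMod.intCast_zmod_eq_zero_iff_dvd _ _).mp h5

/-- the point `(F, V, p)` -/
theorem Ctx.exists_chi [Fact p.Prime] (H : Ctx p q s P D ε h) (hθ : Function.Surjective θ) :
    ∃ χ : S →+* ZMod p, χ (θ (X 0)) = 0 ∧ χ (θ (X 1)) = 0 := by
  let χ₀ : R →+* ZMod p := (MvPolynomial.aeval ![0, 0] : R →ₐ[ℤ] ZMod p).toRingHom
  have h0 : χ₀ (X 0) = 0 := by simp [χ₀]
  have h1 : χ₀ (X 1) = 0 := by simp [χ₀]
  have hC : ∀ n : ℤ, χ₀ (C n) = (n : ZMod p) := fun n => by simp [χ₀]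
  have hle : RingHom.ker θ ≤ RingHom.ker χ₀ := by
    rw [hker, Ideal.span_le]
    have eq : ((q : ℤ) : ZMod p) = 0 := (ZMod.intCast_zmod_eq_zero_iff_dvd _ _).mpr H.pq
    have es : (s : ZMod p) = 0 := (ZMod.intCast_zmod_eq_zero_iff_dvd _ _).mpr H.ps
    rintro x (rfl | rfl | rfl)
    · rw [SetLike.mem_coe, RingHom.mem_ker, map_sub, map_mul, h0, hC, eq]; simp
    · rw [SetLike.mem_coe, RingHom.mem_ker, map_mul, map_sub, h0, hC, es]; simp
    · rw [SetLike.mem_coe, RingHom.mem_ker, map_mul, map_sub, h1, hC, es]; simp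
  refine ⟨RingHom.liftOfSurjective θ hθ ⟨χ₀, hle⟩, ?_, ?_⟩
  · rw [RingHom.liftOfSurjective_comp_apply]; exact h0
  · rw [RingHom.liftOfSurjective_comp_apply]; exact h1

omit hker in
theorem dec (hθ : Function.Surjective θ) (t : S) : ∃ (m : ℤ) (a b : S), t = (m : S) + θ (X 0) * a + θ (X 1) * b := by
  obtain ⟨g, rfl⟩ := hθ t
  induction g using MvPolynomial.induction_on with
  | C a => exact ⟨a, 0, 0, by rw [show (C a : R) = (a : R) by simp, map_intCast]; ring⟩
  | add f g hf hg =>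
    obtain ⟨m, a, b, h⟩ := hf
    obtain ⟨m', a', b', h'⟩ := hg
    exact ⟨m + m', a + a', b + b', by rw [map_add, h, h']; push_cast; ring⟩
  | mul_X f i hf =>
    fin_cases i
    · exact ⟨0, θ f, 0, by simp only [Fin.zero_eta]; rw [map_mul]; push_cast; ring⟩
    · exact ⟨0, 0, θ f, by simp only [Fin.mk_one]; rw [map_mul]; push_cast; ring⟩

theorem rel (H : Ctx p q s P D ε h) : θ (X 0) * θ (X 1) = (q : S) ∧ θ h * (θ (X 0) - (s : S)) = 0 ∧
    θ h * (θ (X 1) - (s : S)) = 0 ∧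
    θ h = (P.coeff D : S) + θ (Polynomial.aeval (X 0 : R) (uP P D)) + (ε : S) * θ (Polynomial.aeval (X 1 : R) (uP P D)) := by
  have e : ∀ n : ℤ, θ (C n) = (n : S) := fun n => by
    rw [show (C n : R) = (n : R) by simp, map_intCast]
  have m0 : θ (X 0 * X 1 - C (q : ℤ)) = 0 := by
    rw [← RingHom.mem_ker, hker]; exact Ideal.subset_span (by simp)
  have m1 : θ (h * (X 0 - C s)) = 0 := by
    rw [← RingHom.mem_ker, hker]; exact Ideal.subset_span (by simp)
  have m2 : θ (h * (X 1 - C s)) = 0 := by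
    rw [← RingHom.mem_ker, hker]; exact Ideal.subset_span (by simp)
  refine ⟨?_, ?_, ?_, ?_⟩
  · rw [map_sub, map_mul, e, sub_eq_zero] at m0
    rw [m0]; simp
  · rw [map_mul, map_sub, e] at m1; exact m1
  · rw [map_mul, map_sub, e] at m2; exact m2
  · obtain ⟨z, hz⟩ := H.h_eq
    have h5 := congrArg θ hz
    rw [map_add, map_add, map_add, map_mul, e, map_mul, e, m0, zero_mul, add_zero] at h5
    exact h5

omit hker in
theorem theta_uP (i : Fin 2) : ∃ w : S, θ (Polynomial.aeval (X i : R) (uP P D)) = θ (X i) * w := by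
  obtain ⟨w, hw⟩ := uP_eq_X_mul P D
  exact ⟨θ (Polynomial.aeval (X i : R) w), by rw [hw, map_mul, Polynomial.aeval_X, map_mul]⟩

theorem socle_F (H : Ctx p q s P D ε h) :
    (p : S) ∣ θ (X 0) * θ (Polynomial.aeval (X 0 : R) (uP P D)) ∧
    (p : S) ∣ θ (X 1) * θ (Polynomial.aeval (X 0 : R) (uP P D)) := by
  obtain ⟨r0, r1, r2, r3⟩ := rel θ hker H
  obtain ⟨w0, hw0⟩ := theta_uP (P := P) (D := D) θ 0
  obtain ⟨w1, hw1⟩ := theta_uP (P := P) (D := D) θ 1
  obtain ⟨q', hq'⟩ := H.pq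
  obtain ⟨s', hs'⟩ := H.ps
  obtain ⟨d', hd'⟩ := H.pD
  have eq : (q : S) = (p : S) * (q' : S) := by exact_mod_cast congrArg (Int.cast : ℤ → S) hq'
  have es : (s : S) = (p : S) * (s' : S) := by rw [hs']; push_cast; rfl
  have ed : ((P.coeff D : ℤ) : S) = (p : S) * (d' : S) := by rw [hd']; push_cast; rfl
  constructor
  · refine ⟨(s' : S) * θ h - (d' : S) * θ (X 0) - (ε : S) * (q' : S) * w1, ?_⟩
    have h1 : θ (X 0) * θ (Polynomial.aeval (X 0 : R) (uP P D)) = (s : S) * θ h - (P.coeff D : S) * θ (X 0) -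
        (ε : S) * (θ (X 0) * θ (Polynomial.aeval (X 1 : R) (uP P D))) := by
      linear_combination r1 - θ (X 0) * r3
    rw [h1, hw1, es, ed]
    linear_combination (-(ε : S) * w1) * r0 - (ε : S) * w1 * eq
  · refine ⟨(q' : S) * w0, ?_⟩
    rw [hw0]
    linear_combination w0 * r0 + w0 * eq

theorem socle_V (H : Ctx p q s P D ε h) :
    (p : S) ∣ θ (X 0) * θ (Polynomial.aeval (X 1 : R) (uP P D)) ∧
    (p : S) ∣ θ (X 1) * θ (Polynomial.aeval (X 1 : R) (uP P D)) := by
  obtain ⟨r0, r1, r2, r3⟩ := rel θ hker H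
  obtain ⟨w0, hw0⟩ := theta_uP (P := P) (D := D) θ 0
  obtain ⟨w1, hw1⟩ := theta_uP (P := P) (D := D) θ 1
  obtain ⟨q', hq'⟩ := H.pq
  obtain ⟨s', hs'⟩ := H.ps
  obtain ⟨d', hd'⟩ := H.pD
  have eq : (q : S) = (p : S) * (q' : S) := by exact_mod_cast congrArg (Int.cast : ℤ → S) hq'
  have es : (s : S) = (p : S) * (s' : S) := by rw [hs']; push_cast; rfl
  have ed : ((P.coeff D : ℤ) : S) = (p : S) * (d' : S) := by rw [hd']; push_cast; rfl
  have eε : (ε : S) * (ε : S) = 1 := by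
    rcases H.hε1 with h | h <;> rw [h] <;> simp
  constructor
  · refine ⟨(q' : S) * w1, ?_⟩
    rw [hw1]
    linear_combination w1 * r0 + w1 * eq
  · refine ⟨(ε : S) * ((s' : S) * θ h - (d' : S) * θ (X 1) - (q' : S) * w0), ?_⟩
    have h1 : (ε : S) * (θ (X 1) * θ (Polynomial.aeval (X 1 : R) (uP P D))) = (s : S) * θ h - (P.coeff D : S) * θ (X 1) -
        (θ (X 1) * θ (Polynomial.aeval (X 0 : R) (uP P D))) := by
      linear_combination r2 - θ (X 1) * r3
    have h2 : θ (X 1) * θ (Polynomial.aeval (X 1 : R) (uP P D)) = (ε : S) * ((s : S) * θ h - (P.coeff D : S) * θ (X 1) -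
        (θ (X 1) * θ (Polynomial.aeval (X 0 : R) (uP P D)))) := by
      rw [← h1]; linear_combination (-(θ (X 1) * θ (Polynomial.aeval (X 1 : R) (uP P D)))) * eε
    rw [h2, hw0, es, ed]
    linear_combination (-(ε : S) * w0) * r0 - (ε : S) * w0 * eq

/-- Not Gorenstein when `p` divides the middle coefficient. -/
theorem not_gorenstein (H : Ctx p q s P D ε h) (hθ : Function.Surjective θ) (htf : ∀ x : S, (p : S) * x = 0 → x = 0)
    (hdim : ringKrullDim S ≤ 1) : ¬ LocCoh.IsGorensteinRing S := by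
  intro hG
  have hfp : Fact p.Prime := ⟨H.hp⟩
  obtain ⟨χ, hχ0, hχ1⟩ := H.exists_chi θ hker hθ
  set x := θ (Polynomial.aeval (X 0 : R) (uP P D)) with hx
  set y := θ (Polynomial.aeval (X 1 : R) (uP P D)) with hy
  obtain ⟨hx0, hx1⟩ := socle_F θ hker H
  obtain ⟨hy0, hy1⟩ := socle_V θ hker H
  let M : Ideal S := RingHom.ker χ
  have hM : M.IsPrime := RingHom.ker_isPrime χ
  -- integers modulo `M`
  have hint : ∀ (m : ℤ) (a b : S), χ ((m : S) + θ (X 0) * a + θ (X 1) * b) = (m : ZMod p) := by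
    intro m a b
    rw [map_add, map_add, map_mul, map_mul, hχ0, hχ1, map_intCast]; ring
  have hsocx : ∀ z ∈ M, (p : S) ∣ z * x := by
    intro z hz
    obtain ⟨m, a, b, rfl⟩ := dec θ hθ z
    have h1 : (m : ZMod p) = 0 := by rw [← hint m a b]; exact hz
    obtain ⟨m', rfl⟩ := (ZMod.intCast_zmod_eq_zero_iff_dvd _ _).mp h1
    have : (((p : ℤ) * m' : ℤ) + θ (X 0) * a + θ (X 1) * b) * x = (p : S) * (m' * x) + a * (θ (X 0) * x) + b * (θ (X 1) * x) := by
      push_cast; ring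
    rw [this]
    exact dvd_add (dvd_add (dvd_mul_right _ _) (Dvd.dvd.mul_left hx0 _)) (Dvd.dvd.mul_left hx1 _)
  have hsocy : ∀ z ∈ M, (p : S) ∣ z * y := by
    intro z hz
    obtain ⟨m, a, b, rfl⟩ := dec θ hθ z
    have h1 : (m : ZMod p) = 0 := by rw [← hint m a b]; exact hz
    obtain ⟨m', rfl⟩ := (ZMod.intCast_zmod_eq_zero_iff_dvd _ _).mp h1
    have : (((p : ℤ) * m' : ℤ) + θ (X 0) * a + θ (X 1) * b) * y = (p : S) * (m' * y) + a * (θ (X 0) * y) + b * (θ (X 1) * y) := by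
      push_cast; ring
    rw [this]
    exact dvd_add (dvd_add (dvd_mul_right _ _) (Dvd.dvd.mul_left hy0 _)) (Dvd.dvd.mul_left hy1 _)
  -- linear independence over `S/M`
  have hred : ∀ t : S, ∃ m : ℤ, χ t = (m : ZMod p) ∧ (t - (m : S)) ∈ M := by
    intro t
    obtain ⟨m, a, b, rfl⟩ := dec θ hθ t
    refine ⟨m, hint m a b, ?_⟩
    change χ _ = 0
    rw [map_sub, hint, map_intCast, sub_self]
  have hind : ∀ t₁ t₂ : S, (p : S) ∣ t₁ * y - t₂ * x → t₁ ∈ M ∧ t₂ ∈ M := by
    intro t₁ t₂ hdvd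
    obtain ⟨m₁, hm₁, hm₁'⟩ := hred t₁
    obtain ⟨m₂, hm₂, hm₂'⟩ := hred t₂
    have h1 : (p : S) ∣ (m₁ : S) * y - (m₂ : S) * x := by
      have e : (m₁ : S) * y - (m₂ : S) * x = (t₁ * y - t₂ * x) - (t₁ - (m₁ : S)) * y + (t₂ - (m₂ : S)) * x := by ring
      rw [e]
      exact dvd_add (dvd_sub hdvd (hsocy _ hm₁')) (hsocx _ hm₂')
    have h2 := H.indep_V θ hker m₁ m₂ hθ h1
    have h3 := H.indep_F θ hker m₁ m₂ hθ h1
    constructor
    · change χ t₁ = 0
      rw [hm₁]; exact (ZMod.intCast_zmod_eq_zero_iff_dvd _ _).mpr h2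
    · change χ t₂ = 0
      rw [hm₂]; exact (ZMod.intCast_zmod_eq_zero_iff_dvd _ _).mpr h3
  let O := Localization.AtPrime M
  have hGO : LocCoh.IsGorensteinLocalRing O := hG.isGorensteinLocalRing_localization M
  have hNS : IsNoetherianRing S := inferInstance
  have hpM : (p : S) ∈ M := by
    change χ (p : S) = 0
    rw [map_natCast]; simp
  have hf : algebraMap S O (p : S) ∈ IsLocalRing.maximalIdeal O :=
    (IsLocalization.AtPrime.to_map_mem_maximal_iff O M _).2 hpM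
  have hregS : IsSMulRegular S (p : S) := by
    intro a b hab
    have : (p : S) * (a - b) = 0 := by rw [mul_sub, sub_eq_zero]; exact hab
    exact sub_eq_zero.mp (htf _ this)
  have hreg : IsSMulRegular O (algebraMap S O (p : S)) :=
    IsSMulRegular.of_isLocalization O M.primeCompl hregS
  have hdimO : ringKrullDim O ≤ 1 := by
    refine le_trans ?_ hdim
    rw [IsLocalization.AtPrime.ringKrullDim_eq_height M O]
    exact Ideal.height_le_ringKrullDim_of_isPrime
  have hmax : ∀ (v : S), (∀ z ∈ M, (p : S) ∣ z * v) → ∀ t ∈ IsLocalRing.maximalIdeal O,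
      t * algebraMap S O v ∈ Ideal.span {algebraMap S O (p : S)} := by
    intro v hv t ht
    obtain ⟨z, b, rfl⟩ := IsLocalization.exists_mk'_eq M.primeCompl t
    have ht' : z ∈ M := (IsLocalization.AtPrime.mk'_mem_maximal_iff O M z b).mp ht
    obtain ⟨w, hw⟩ := hv z ht'
    rw [Ideal.mem_span_singleton]
    refine ⟨IsLocalization.mk' O w b, ?_⟩
    rw [mul_comm (IsLocalization.mk' O z b), IsLocalization.mul_mk'_eq_mk'_of_mul, IsLocalization.mul_mk'_eq_mk'_of_mul,
      mul_comm v z, hw]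
  have hmem : ∀ v : S, algebraMap S O v ∈ Ideal.span {algebraMap S O (p : S)} → ∃ t : S, t ∉ M ∧ (p : S) ∣ t * v := by
    intro v hv
    rw [Ideal.mem_span_singleton] at hv
    obtain ⟨w, hw⟩ := hv
    obtain ⟨a, b, rfl⟩ := IsLocalization.exists_mk'_eq M.primeCompl w
    have h1 : algebraMap S O ((b : S) * v) = algebraMap S O ((p : S) * a) := by
      rw [map_mul, hw, map_mul, mul_left_comm, IsLocalization.mk'_spec']
    obtain ⟨c, hc⟩ := (IsLocalization.eq_iff_exists M.primeCompl O).mp h1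
    refine ⟨c * b, fun hcb => (hM.mem_or_mem hcb).elim c.2 b.2, (c : S) * a, ?_⟩
    rw [mul_assoc, hc]; ring
  have hxn : algebraMap S O x ∉ Ideal.span {algebraMap S O (p : S)} := by
    intro hmemx
    obtain ⟨t, ht, hdvd⟩ := hmem x hmemx
    have := (hind 0 (-t) (by simpa using hdvd)).2
    exact ht (by simpa using this)
  obtain ⟨c, hc⟩ := Groth.Agent.Models.H73.NodeLocal.socle_mod hGO hf hreg hdimO (algebraMap S O x) (algebraMap S O y)
    (hmax x hsocx) (hmax y hsocy) hxn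
  obtain ⟨a, b, rfl⟩ := IsLocalization.exists_mk'_eq M.primeCompl c
  have hc' : algebraMap S O ((b : S) * y - a * x) ∈ Ideal.span {algebraMap S O (p : S)} := by
    have e : algebraMap S O ((b : S) * y - a * x) = algebraMap S O (b : S) *
      (algebraMap S O y - IsLocalization.mk' O a b * algebraMap S O x) := by
      rw [map_sub, map_mul, map_mul, mul_sub, ← mul_assoc, IsLocalization.mk'_spec']
    rw [e]
    exact Ideal.mul_mem_left _ _ hc
  obtain ⟨t, ht, hdvd⟩ := hmem _ hc'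
  have h1 := (hind (t * b) (t * a) (by
    have e : t * ((b : S) * y - a * x) = t * b * y - t * a * x := by ring
    rw [← e]; exact hdvd)).1
  exact (hM.mem_or_mem h1).elim ht b.2

end S

end K944.WeilNum.SqNon
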