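import Groth.Agent.WeilNum.K944.Basic
import Mathlib.NumberTheory.Padics.Complex
import Mathlib.Analysis.Normed.Group.Ultra
import Mathlib.Tactic

/-!
# Unit roots of an integer polynomial over the `p`-adic algebraic closure
-/

set_option autoImplicit false

open Polynomial

namespace K944.WeilNum.Padic

theorem sub_le_max {L : Type*} [NormedField L] [IsUltrametricDist L] (x y : L) : ‖x - y‖ ≤ max ‖x‖ ‖y‖ := by
  rw [sub_eq_add_neg, ← norm_neg y]
  exact IsUltrametricDist.norm_add_le_max _ _

theorem sub_eq_max {L : Type*} [NormedField L] [IsUltrametricDist L] {x y : L} (h : ‖x‖ ≠ ‖y‖) :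
    ‖x - y‖ = max ‖x‖ ‖y‖ := by
  rw [← norm_neg y] at h
  rw [sub_eq_add_neg, ← norm_neg y]
  exact IsUltrametricDist.norm_add_eq_max_of_norm_ne_norm h

open scoped Classical in
/-- Product of `X - z` over a multiset in the unit ball: location of the first unit coefficient. -/
theorem prod_coeff {L : Type*} [NormedField L] [IsUltrametricDist L] (s : Multiset L)
    (hs : ∀ z ∈ s, ‖z‖ ≤ 1) :
    (∀ k, ‖((s.map fun z => X - C z).prod).coeff k‖ ≤ 1) ∧
    (∀ k, k + Multiset.card (s.filter fun z => ‖z‖ = 1) < Multiset.card s →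
      ‖((s.map fun z => X - C z).prod).coeff k‖ < 1) ∧
    (∀ k, k + Multiset.card (s.filter fun z => ‖z‖ = 1) = Multiset.card s →
      ‖((s.map fun z => X - C z).prod).coeff k‖ = 1) := by
  induction s using Multiset.induction_on with
  | empty =>
    refine ⟨fun k => ?_, fun k hk => by simp at hk, fun k hk => ?_⟩
    · rw [Multiset.map_zero, Multiset.prod_zero, coeff_one]
      split_ifs <;> simp
    · simp at hk
      subst hk
      simp
  | cons z s ih =>
    have hz : ‖z‖ ≤ 1 := hs z (Multiset.mem_cons_self _ _)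
    obtain ⟨h1, h2, h3⟩ := ih fun y hy => hs y (Multiset.mem_cons_of_mem hy)
    set Q := (s.map fun z => X - C z).prod with hQ
    have hc0 : ((X - C z) * Q).coeff 0 = - (z * Q.coeff 0) := by
      rw [sub_mul, coeff_sub, coeff_C_mul, mul_coeff_zero, coeff_X_zero, zero_mul, zero_sub]
    have hcs : ∀ k, ((X - C z) * Q).coeff (k + 1) = Q.coeff k - z * Q.coeff (k + 1) := by
      intro k
      rw [sub_mul, coeff_sub, coeff_C_mul, coeff_X_mul]
    have hzQ : ∀ k, ‖z * Q.coeff k‖ ≤ 1 := fun k => by
      rw [norm_mul]; exact mul_le_one₀ hz (norm_nonneg _) (h1 k)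
    rw [Multiset.map_cons, Multiset.prod_cons]
    simp only [Multiset.card_cons]
    rw [← hQ]
    refine ⟨fun k => ?_, ?_⟩
    · cases k with
      | zero => rw [hc0, norm_neg]; exact hzQ 0
      | succ k =>
        rw [hcs]
        exact (sub_le_max _ _).trans (max_le (h1 k) (hzQ _))
    · by_cases hz1 : ‖z‖ = 1
      · rw [Multiset.filter_cons_of_pos (p := fun z => ‖z‖ = 1) s hz1, Multiset.card_cons]
        refine ⟨fun k hk => ?_, fun k hk => ?_⟩
        · cases k with
          | zero =>
            rw [hc0, norm_neg, norm_mul, hz1, one_mul]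
            exact h2 0 (by omega)
          | succ k =>
            rw [hcs]
            refine (sub_le_max _ _).trans_lt (max_lt (h2 k (by omega)) ?_)
            rw [norm_mul, hz1, one_mul]
            exact h2 (k + 1) (by omega)
        · cases k with
          | zero =>
            rw [hc0, norm_neg, norm_mul, hz1, one_mul]
            exact h3 0 (by omega)
          | succ k =>
            rw [hcs]
            have a := h2 k (by omega)
            have b := h3 (k + 1) (by omega)
            have c : ‖z * Q.coeff (k + 1)‖ = 1 := by rw [norm_mul, hz1, one_mul, b]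
            rw [sub_eq_max (by rw [c]; exact a.ne), c]
            exact max_eq_right a.le
      · rw [Multiset.filter_cons_of_neg (p := fun z => ‖z‖ = 1) s hz1]
        have hzlt : ‖z‖ < 1 := lt_of_le_of_ne hz hz1
        have hzQ' : ∀ k, ‖z * Q.coeff k‖ < 1 := fun k => by
          rw [norm_mul]
          calc ‖z‖ * ‖Q.coeff k‖ ≤ ‖z‖ * 1 := mul_le_mul_of_nonneg_left (h1 k) (norm_nonneg _)
            _ < 1 := by rwa [mul_one]
        refine ⟨fun k hk => ?_, fun k hk => ?_⟩
        · cases k with
          | zero => rw [hc0, norm_neg]; exact hzQ' 0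
          | succ k =>
            rw [hcs]
            exact (sub_le_max _ _).trans_lt (max_lt (h2 k (by omega)) (hzQ' _))
        · cases k with
          | zero =>
            exfalso
            have := Multiset.card_le_card (Multiset.filter_le (fun z => ‖z‖ = 1) s)
            omega
          | succ k =>
            rw [hcs]
            have b := h3 k (by omega)
            have c := hzQ' (k + 1)
            rw [sub_eq_max (by rw [b]; exact c.ne'), b]
            exact max_eq_left c.le

variable (p : ℕ) [Fact p.Prime]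

theorem norm_int (a : ℤ) : ‖(algebraMap ℤ (PadicAlgCl p) a)‖ = ‖(a : ℚ_[p])‖ := by
  rw [← PadicAlgCl.norm_extends p (a : ℚ_[p])]
  simp

theorem norm_int_le (a : ℤ) : ‖(algebraMap ℤ (PadicAlgCl p) a)‖ ≤ 1 := by
  rw [norm_int]; exact Padic.norm_int_le_one a

theorem norm_int_lt_iff (a : ℤ) : ‖(algebraMap ℤ (PadicAlgCl p) a)‖ < 1 ↔ (p : ℤ) ∣ a := by
  rw [norm_int]; exact Padic.norm_intCast_lt_one_iff

/-- an element of the `p`-adic algebraic closure integral over `ℤ` has norm `≤ 1` -/
theorem norm_root_le (P : ℤ[X]) (hP : P.Monic) (z : PadicAlgCl p) (hz : aeval z P = 0) : ‖z‖ ≤ 1 := by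
  by_contra hlt
  rw [not_le] at hlt
  have hz0 : z ≠ 0 := by
    rintro rfl
    simp at hlt
    linarith
  rw [aeval_eq_sum_range, Finset.sum_range_succ, coeff_natDegree, hP.leadingCoeff, one_smul] at hz
  have h1 : z ^ P.natDegree = - ∑ k ∈ Finset.range P.natDegree, P.coeff k • z ^ k := by
    linear_combination hz
  have hterm : ∀ k ∈ Finset.range P.natDegree, ‖P.coeff k • z ^ k‖ < ‖z ^ P.natDegree‖ := by
    intro k hk
    rw [Finset.mem_range] at hk
    rw [zsmul_eq_mul, norm_mul, norm_pow, norm_pow]
    have e : ‖((P.coeff k : ℤ) : PadicAlgCl p)‖ ≤ 1 := by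
      have := norm_int_le p (P.coeff k)
      simpa using this
    calc ‖((P.coeff k : ℤ) : PadicAlgCl p)‖ * ‖z‖ ^ k ≤ 1 * ‖z‖ ^ k :=
          mul_le_mul_of_nonneg_right e (by positivity)
      _ < ‖z‖ ^ P.natDegree := by rw [one_mul]; exact pow_lt_pow_right₀ hlt hk
  have hpos : 0 < ‖z ^ P.natDegree‖ := norm_pos_iff.mpr (pow_ne_zero _ hz0)
  have h2 : ‖∑ k ∈ Finset.range P.natDegree, P.coeff k • z ^ k‖ < ‖z ^ P.natDegree‖ := by
    by_cases hne : (Finset.range P.natDegree).Nonempty
    · obtain ⟨i, hi, hle⟩ := IsUltrametricDist.exists_norm_finsetSum_le_of_nonempty hne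
        (fun k => P.coeff k • z ^ k)
      exact hle.trans_lt (hterm i hi)
    · rw [Finset.not_nonempty_iff_eq_empty] at hne
      rw [hne, Finset.sum_empty, norm_zero]
      exact hpos
  rw [h1, norm_neg] at h2
  exact lt_irrefl _ h2

open scoped Classical in
/-- The number `u` of unit roots: `p` divides the coefficients below `n - u` and not the one at `n - u`. -/
theorem unit_roots (P : ℤ[X]) (hP : P.Monic) :
    (∀ k, k + Multiset.card ((P.aroots (PadicAlgCl p)).filter fun z => ‖z‖ = 1) < P.natDegree →
      (p : ℤ) ∣ P.coeff k) ∧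
    (∀ k, k + Multiset.card ((P.aroots (PadicAlgCl p)).filter fun z => ‖z‖ = 1) = P.natDegree →
      ¬ (p : ℤ) ∣ P.coeff k) := by
  have hs : Splits (P.map (algebraMap ℤ (PadicAlgCl p))) := IsAlgClosed.splits _
  have h := hs.eq_prod_roots_of_monic (hP.map _)
  have hcard : Multiset.card (P.aroots (PadicAlgCl p)) = P.natDegree := by
    rw [aroots_def, ← hs.natDegree_eq_card_roots, hP.natDegree_map]
  obtain ⟨_, h2, h3⟩ := prod_coeff (P.aroots (PadicAlgCl p)) (fun z hz => by
    rw [mem_aroots] at hz
    exact norm_root_le p P hP z hz.2)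
  rw [aroots_def, ← h] at h2 h3
  rw [← aroots_def, hcard] at h2 h3
  refine ⟨fun k hk => ?_, fun k hk => ?_⟩
  · have := h2 k hk
    rw [coeff_map, norm_int_lt_iff] at this
    exact this
  · have := h3 k hk
    rw [coeff_map] at this
    rw [← norm_int_lt_iff, this]
    exact lt_irrefl _

theorem card_le (P : ℤ[X]) (hP : P.Monic) : Multiset.card (P.aroots (PadicAlgCl p)) = P.natDegree := by
  have hs : Splits (P.map (algebraMap ℤ (PadicAlgCl p))) := IsAlgClosed.splits _
  rw [aroots_def, ← hs.natDegree_eq_card_roots, hP.natDegree_map]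

open scoped Classical in
/-- for a Weil polynomial of even degree `2D`: ordinary iff `p` does not divide the middle coefficient -/
theorem ordinary_iff (e : ℕ) (he : 0 < e) (P : ℤ[X]) (hP : K944.WeilNum.Basic.IsWeilPoly (p ^ e) P)
    (D : ℕ) (hD : P.natDegree = 2 * D) :
    2 * Multiset.card ((P.aroots (PadicAlgCl p)).filter fun z => ‖z‖ = 1) = P.natDegree ↔
      ¬ (p : ℤ) ∣ P.coeff D := by
  have hp : 0 < p := (Fact.out : p.Prime).pos
  obtain ⟨ε, hε, h0, hr⟩ := K944.WeilNum.Basic.exists_sign (pow_pos hp e) hP D hD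
  have hlow : ∀ k < D, (p : ℤ) ∣ P.coeff k := by
    intro k hk
    have := hr (D - k) (by omega)
    rw [show D - (D - k) = k by omega] at this
    rw [this]
    refine Dvd.dvd.mul_left (Dvd.dvd.mul_right ?_ _) _
    push_cast
    rw [← pow_mul]
    exact dvd_pow_self _ (mul_ne_zero he.ne' (by omega))
  obtain ⟨h1, h2⟩ := unit_roots p P hP.1
  set u := Multiset.card ((P.aroots (PadicAlgCl p)).filter fun z => ‖z‖ = 1) with hu
  have hun : u ≤ P.natDegree := by
    rw [hu, ← card_le p P hP.1]
    exact Multiset.card_le_card (Multiset.filter_le _ _)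
  have hle : D ≤ P.natDegree - u := by
    by_contra hlt
    exact h2 (P.natDegree - u) (by omega) (hlow _ (by omega))
  constructor
  · intro h
    exact h2 D (by omega)
  · intro h
    by_contra hne
    exact h (h1 D (by omega))

end K944.WeilNum.Padic
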