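import Groth.Agent.Sga4B.InvLocal
import Groth.Agent.Models2.DiscDual
import Mathlib.RingTheory.PicardGroup
import Mathlib.RingTheory.Finiteness.Nakayama
import Mathlib.GroupTheory.FiniteAbelian.Basic
import Mathlib.Algebra.Module.Torsion.Basic
import Mathlib.Algebra.Module.PID
import Mathlib.RingTheory.TensorProduct.IsBaseChangeHom

/-!
# Surjectivity of `Pic S → Pic T` for a surjection of orders
-/

set_option autoImplicit false

namespace K944.WeilNum.PicSurj

open TensorProduct Module

universe u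

variable {S T : Type u} [CommRing S] [CommRing T]

/-- modulo an ideal with semilocal quotient an invertible module becomes free of rank one -/
theorem nonempty_quot_equiv {A : Type u} [CommRing A] (I : Ideal A) [Finite (MaximalSpectrum (A ⧸ I))]
    (P : Type u) [AddCommGroup P] [Module A P] [Module.Invertible A P] :
    Nonempty ((P ⧸ (I • ⊤ : Submodule A P)) ≃ₗ[A] (A ⧸ I)) := by
  have h1 : Module.Free (A ⧸ I) ((A ⧸ I) ⊗[A] P) := inferInstance
  obtain ⟨e⟩ := (Module.Invertible.free_iff_linearEquiv).mp h1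
  exact ⟨(TensorProduct.quotTensorEquivQuotSMul P I).symm.trans (e.restrictScalars A)⟩

/-- torsion-freeness of an invertible module -/
theorem smul_eq_zero_of_invertible (hT : ∀ (m : ℤ) (t : T), m ≠ 0 → (m : T) * t = 0 → t = 0)
    (L : Type u) [AddCommGroup L] [Module T L] [Module.Invertible T L] (m : ℤ) (hm : m ≠ 0) (x : L)
    (h : (m : T) • x = 0) : x = 0 := by
  obtain ⟨s, hs⟩ := Groth.Agent.Models2.DiscDual.exists_sum_eq_one (B := T) L
  have h1 : x = ∑ p ∈ s, p.1 x • p.2 := by
    calc x = (∑ p ∈ s, p.1 p.2) • x := by rw [hs, one_smul]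
      _ = ∑ p ∈ s, p.1 p.2 • x := by rw [Finset.sum_smul]
      _ = _ := Finset.sum_congr rfl fun p _ => Groth.Agent.Models2.DiscDual.invertible_swap p.1 p.2 x
  rw [h1]
  refine Finset.sum_eq_zero fun p _ => ?_
  have h2 : (m : T) * p.1 x = 0 := by rw [← smul_eq_mul, ← map_smul, h, map_zero]
  rw [hT m _ hm h2, zero_smul]

/-- an invertible module is isomorphic to an ideal containing an integer prime to `N`. -/
theorem exists_ideal [Module.Finite ℤ T] (hT : ∀ (m : ℤ) (t : T), m ≠ 0 → (m : T) * t = 0 → t = 0)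
    (N : ℤ) (hN : 2 ≤ |N|) (L : Type u) [AddCommGroup L] [Module T L] [Module.Invertible T L] :
    ∃ (g : L →ₗ[T] T) (m : ℤ) (k : ℤ), Function.Injective g ∧ m = 1 + N * k ∧ ∃ x : L, g x = (m : T) := by
  have hN0 : N ≠ 0 := by rintro rfl; simp at hN
  have hfin : _root_.Finite (T ⧸ Ideal.span {(N : T)}) := by
    have : Module.Finite ℤ (T ⧸ Ideal.span {(N : T)}) := inferInstance
    refine Module.finite_of_fg_torsion _ ?_
    intro x
    refine ⟨⟨N, mem_nonZeroDivisors_of_ne_zero hN0⟩, ?_⟩
    obtain ⟨x, rfl⟩ := Ideal.Quotient.mk_surjective x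
    change N • Ideal.Quotient.mk (Ideal.span {(N : T)}) x = 0
    rw [← map_zsmul, Ideal.Quotient.eq_zero_iff_mem, zsmul_eq_mul]
    exact Ideal.mul_mem_right _ _ (Ideal.mem_span_singleton_self _)
  have hms : _root_.Finite (MaximalSpectrum (T ⧸ Ideal.span {(N : T)})) := by
    have : _root_.Finite (Ideal (T ⧸ Ideal.span {(N : T)})) :=
      _root_.Finite.of_injective (fun I : Ideal _ => (I : Set (T ⧸ Ideal.span {(N : T)}))) SetLike.coe_injective
    exact _root_.Finite.of_injective (fun m : MaximalSpectrum _ => m.asIdeal) fun a b h => MaximalSpectrum.ext h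
  obtain ⟨e⟩ := nonempty_quot_equiv (Ideal.span {(N : T)}) L
  let q : L →ₗ[T] (T ⧸ Ideal.span {(N : T)}) := e.toLinearMap.comp (Submodule.mkQ _)
  obtain ⟨g, hg⟩ := Module.projective_lifting_property (Submodule.mkQ (Ideal.span {(N : T)})) q
    (Submodule.mkQ_surjective _)
  have hg' : ∀ x, Submodule.mkQ (Ideal.span {(N : T)}) (g x) = q x := fun x => LinearMap.congr_fun hg x
  -- the image `a`
  obtain ⟨x₁, hx₁⟩ : ∃ x : L, Submodule.mkQ (Ideal.span {(N : T)}) (g x) = Submodule.mkQ (Ideal.span {(N : T)}) 1 := by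
    obtain ⟨y, hy⟩ := e.surjective (Submodule.mkQ (Ideal.span {(N : T)}) 1)
    obtain ⟨x, rfl⟩ := Submodule.mkQ_surjective _ y
    exact ⟨x, by rw [hg']; exact hy⟩
  have hdiff : g x₁ - 1 ∈ Ideal.span {(N : T)} := by
    rw [← Submodule.Quotient.mk_eq_zero]
    rw [Submodule.Quotient.mk_sub, sub_eq_zero]; exact hx₁
  rw [Ideal.mem_span_singleton] at hdiff
  obtain ⟨t₁, ht₁⟩ := hdiff
  -- Nakayama over `ℤ`
  let 𝔞 : Ideal T := LinearMap.range g
  have h𝔞 : ∀ t : T, ∃ a ∈ 𝔞, ∃ b : T, t = a + (N : T) * b := by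
    intro t
    refine ⟨t * g x₁, Ideal.mul_mem_left _ _ ⟨x₁, rfl⟩, -(t * t₁), ?_⟩
    linear_combination (-t) * ht₁
  have hfg : (⊤ : Submodule ℤ (T ⧸ 𝔞)).FG := Module.Finite.fg_top
  obtain ⟨r, hr1, hr2⟩ := Submodule.exists_sub_one_mem_and_smul_eq_zero_of_fg_of_le_smul (Ideal.span {N})
    (⊤ : Submodule ℤ (T ⧸ 𝔞)) hfg (by
      intro x _
      obtain ⟨t, rfl⟩ := Ideal.Quotient.mk_surjective x
      obtain ⟨a, ha, b, rfl⟩ := h𝔞 t
      have : Ideal.Quotient.mk 𝔞 (a + (N : T) * b) = N • Ideal.Quotient.mk 𝔞 b := by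
        rw [map_add, Ideal.Quotient.eq_zero_iff_mem.mpr ha, zero_add, ← zsmul_eq_mul, map_zsmul]
      rw [this]
      exact Submodule.smul_mem_smul (Ideal.mem_span_singleton_self N) trivial)
  rw [Ideal.mem_span_singleton] at hr1
  obtain ⟨k, hk⟩ := hr1
  have hrm : (r : T) ∈ 𝔞 := by
    have h1 := hr2 (Ideal.Quotient.mk 𝔞 1) trivial
    rw [← map_zsmul, Ideal.Quotient.eq_zero_iff_mem, zsmul_eq_mul, mul_one] at h1
    exact h1
  obtain ⟨x₀, hx₀⟩ := hrm
  have hr0 : r ≠ 0 := by
    rintro rfl
    have h2 : N ∣ 1 := ⟨-k, by linear_combination -hk⟩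
    have := Int.le_of_dvd one_pos ((abs_dvd N 1).mpr h2)
    omega
  refine ⟨g, r, k, ?_, by linear_combination hk, x₀, hx₀⟩
  rw [injective_iff_map_eq_zero]
  intro x hx
  refine smul_eq_zero_of_invertible hT L r hr0 x ?_
  rw [← hx₀, Groth.Agent.Models2.DiscDual.invertible_swap g x₀ x, hx, zero_smul]

/-- The main surjectivity statement. -/
theorem surjective (φ : S →+* T) (hφ : Function.Surjective φ) [Module.Finite ℤ T]
    (hT : ∀ (m : ℤ) (t : T), m ≠ 0 → (m : T) * t = 0 → t = 0)
    (N : ℤ) (hN : 2 ≤ |N|) (n : S) (hn : φ n = (N : T)) (hn0 : ∀ i ∈ RingHom.ker φ, n * i = 0) :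
    Function.Surjective (CommRing.Pic.mapRingHom φ) := by
  let _ : Algebra S T := φ.toAlgebra
  intro P
  obtain ⟨g, m, k, hg, hm, x₀, hx₀⟩ := exists_ideal hT N hN P
  let 𝔞 : Ideal T := LinearMap.range g
  let J : Ideal S := 𝔞.comap φ
  let _ : Module S P := Module.compHom P φ
  have : IsScalarTower S T P := ⟨fun s t p => by
    change (φ s * t) • p = φ s • t • p
    rw [mul_smul]⟩
  -- the section `j : T → S`, `t ↦ n * t~`
  have hj : ∀ s s' : S, φ s = φ s' → n * s = n * s' := by
    intro s s' h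
    have := hn0 (s - s') (by rw [RingHom.mem_ker, map_sub, h, sub_self])
    rwa [mul_sub, sub_eq_zero] at this
  let j : T → S := fun t => n * Function.surjInv hφ t
  have hjφ : ∀ s, j (φ s) = n * s := fun s => hj _ _ (Function.surjInv_eq hφ _)
  -- `J → P`
  let G : P ≃ₗ[T] 𝔞 := LinearEquiv.ofInjective g hg
  let π : J →ₗ[S] P :=
    { toFun := fun y => G.symm ⟨φ y.1, y.2⟩
      map_add' := fun y z => by
        rw [← map_add]; congr 1; exact Subtype.ext (map_add φ _ _)
      map_smul' := fun s y => by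
        change _ = φ s • G.symm ⟨φ y.1, y.2⟩
        rw [← map_smul]; congr 1; exact Subtype.ext (map_mul φ _ _) }
  have hπ : ∀ y : J, g (π y) = φ y.1 := by
    intro y
    have := congrArg Subtype.val (G.apply_symm_apply ⟨φ y.1, y.2⟩)
    exact this
  have hπs : Function.Surjective π := by
    intro p
    obtain ⟨s, hs⟩ := hφ (g p)
    refine ⟨⟨s, by change φ s ∈ 𝔞; rw [hs]; exact ⟨p, rfl⟩⟩, hg ?_⟩
    rw [hπ]; exact hs
  have hinv : Module.Invertible S J := by
    refine Groth.Agent.Sga4B.InvLocal.invertible_of_symm ?_ ?_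
    · intro f x y
      apply Subtype.ext
      change f x * y.1 = f y * x.1
      have h1 : y.1 • x = x.1 • y := Subtype.ext (mul_comm _ _)
      have h2 := congrArg f h1
      rw [map_smul, map_smul, smul_eq_mul, smul_eq_mul] at h2
      rw [mul_comm, h2, mul_comm]
    · rw [← LinearMap.range_eq_top]
      have hmem : ∀ (f : J →ₗ[S] S) (y : J), f y ∈ LinearMap.range (contractLeft S J) := fun f y =>
        ⟨f ⊗ₜ y, contractLeft_apply f y⟩
      have hincl : ∀ y : J, y.1 ∈ LinearMap.range (contractLeft S J) := fun y => hmem J.subtype y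
      have hnn : n ∈ LinearMap.range (contractLeft S J) := by
        obtain ⟨s, hs⟩ := Groth.Agent.Models2.DiscDual.exists_sum_eq_one (B := T) P
        -- functionals
        let F : (P →ₗ[T] T) → (J →ₗ[S] S) := fun f =>
          { toFun := fun y => j (f (π y))
            map_add' := fun y z => by
              change j _ = j _ + j _
              obtain ⟨a, ha⟩ := hφ (f (π y))
              obtain ⟨b, hb⟩ := hφ (f (π z))
              rw [map_add, map_add, ← ha, ← hb, ← map_add, hjφ, hjφ, hjφ]; ring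
            map_smul' := fun c y => by
              change j _ = c * j _
              obtain ⟨a, ha⟩ := hφ (f (π y))
              have : f (π (c • y)) = φ c * f (π y) := by
                rw [map_smul]
                change f (φ c • π y) = _
                rw [map_smul, smul_eq_mul]
              rw [this, ← ha, ← map_mul, hjφ, hjφ]; ring }
        choose lift hlift using hπs
        have h3 : n = ∑ p ∈ s, F p.1 (lift p.2) := by
          have h4 : ∀ p : (P →ₗ[T] T) × P, F p.1 (lift p.2) = n * Function.surjInv hφ (p.1 p.2) := by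
            intro p
            change j (p.1 (π (lift p.2))) = _
            rw [hlift]
          have h5 : ∑ p ∈ s, F p.1 (lift p.2) = ∑ p ∈ s, n * Function.surjInv hφ (p.1 p.2) :=
            Finset.sum_congr rfl fun p _ => h4 p
          rw [h5, ← Finset.mul_sum]
          have h6 : n * 1 = n * ∑ p ∈ s, Function.surjInv hφ (p.1 p.2) := by
            apply hj
            rw [map_one, map_sum, ← hs]
            exact Finset.sum_congr rfl fun p _ => (Function.surjInv_eq hφ _).symm
          rw [← h6, mul_one]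
        rw [h3]
        exact Submodule.sum_mem _ fun p _ => hmem _ _
      have hn' : ((N : S) - n) ∈ LinearMap.range (contractLeft S J) := by
        refine hincl ⟨(N : S) - n, ?_⟩
        change φ _ ∈ 𝔞
        rw [map_sub, hn, map_intCast, sub_self]
        exact zero_mem _
      have hmm : (m : S) ∈ LinearMap.range (contractLeft S J) := by
        refine hincl ⟨(m : S), ?_⟩
        change φ _ ∈ 𝔞
        rw [map_intCast]
        exact ⟨x₀, hx₀⟩
      rw [Ideal.eq_top_iff_one]
      have h7 : (1 : S) = (m : S) - (k : S) * (n + ((N : S) - n)) := by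
        rw [hm]; push_cast; ring
      rw [h7]
      exact Submodule.sub_mem _ hmm (Ideal.mul_mem_left _ _ (Submodule.add_mem _ hnn hn'))
  refine ⟨CommRing.Pic.mk S J, ?_⟩
  change CommRing.Pic.mapAlgebra S T (CommRing.Pic.mk S J) = P
  rw [CommRing.Pic.mapAlgebra_apply, CommRing.Pic.mk_eq_iff]
  let π' : (CommRing.Pic.mk S J : Type u) →ₗ[S] P := π.comp (CommRing.Pic.mk.linearEquiv S J).toLinearMap
  have hπ's : Function.Surjective π' := hπs.comp (CommRing.Pic.mk.linearEquiv S J).surjective
  let Φ : T ⊗[S] (CommRing.Pic.mk S J : Type u) →ₗ[T] P := π'.liftBaseChange T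
  have hΦ : Function.Surjective Φ := by
    intro p
    obtain ⟨y, hy⟩ := hπ's p
    refine ⟨1 ⊗ₜ y, ?_⟩
    rw [LinearMap.liftBaseChange_tmul, one_smul, hy]
  exact ⟨LinearEquiv.ofBijective Φ (Module.Invertible.bijective_of_surjective hΦ)⟩

end K944.WeilNum.PicSurj
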