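import Groth.Agent.WeilNum.K944.Sym
import Mathlib.Algebra.Algebra.Subalgebra.Lattice
import Mathlib.LinearAlgebra.FreeModule.Basic

/-!
# Modules over the minimal central order
-/

set_option autoImplicit false

open MvPolynomial

namespace K944.WeilNum.ModStr

open K944.WeilNum.Ker K944.WeilNum.Sym K944.WeilNum.Basic

/-- two commuting elements define a ring map out of `ℤ[F, V]`. -/
theorem exists_hom {E : Type*} [Ring E] (a b : E) (hab : a * b = b * a) :
    ∃ φ : R →+* E, φ (X 0) = a ∧ φ (X 1) = b := by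
  have hcomm : ∀ x ∈ ({a, b} : Set E), ∀ y ∈ ({a, b} : Set E), x * y = y * x := by
    rintro x (rfl | rfl) y (rfl | rfl)
    · rfl
    · exact hab
    · exact hab.symm
    · rfl
  let _ := Algebra.adjoinCommRingOfComm ℤ hcomm
  let a' : Algebra.adjoin ℤ ({a, b} : Set E) := ⟨a, Algebra.subset_adjoin (by simp)⟩
  let b' : Algebra.adjoin ℤ ({a, b} : Set E) := ⟨b, Algebra.subset_adjoin (by simp)⟩
  let ψ : R →+* Algebra.adjoin ℤ ({a, b} : Set E) := MvPolynomial.eval₂Hom (Int.castRingHom _) ![a', b']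
  let incl : Algebra.adjoin ℤ ({a, b} : Set E) →+* E := (Algebra.adjoin ℤ ({a, b} : Set E)).val.toRingHom
  refine ⟨incl.comp ψ, ?_, ?_⟩
  · change incl (ψ (X 0)) = a
    rw [show ψ (X 0) = a' from by simp [ψ]]
    rfl
  · change incl (ψ (X 1)) = b
    rw [show ψ (X 1) = b' from by simp [ψ]]
    rfl

section

universe u
variable {q : ℕ} {ι : Type} [Fintype ι] {K : ι → Type u} [∀ i, Field (K i)] [∀ i, CharZero (K i)] {π : ∀ i, K i}

/-- The kernel of `ℤ[F,V] → ∏ K_i` kills any `T` on which `P_w(F) = 0` and `F` is injective. -/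
theorem ker_le (hq : 0 < q) (hint : ∀ i, IsIntegral ℤ (π i))
    (hinj : ∀ i j, minpoly ℤ (π i) = minpoly ℤ (π j) → i = j)
    (f : R →ₐ[ℤ] ((i : ι) → K i)) (hf0 : f (X 0) = π)
    (hf1 : ∀ i, π i * f (X 1) i = (q : K i)) {T : Type*} [AddCommGroup T]
    (FT VT : T →ₗ[ℤ] T) (hFV : FT * VT = (q : ℤ) • LinearMap.id) (hinjF : Function.Injective FT)
    (hP : Polynomial.aeval FT (∏ i, minpoly ℤ (π i)) = 0)
    (φ : R →+* Module.End ℤ T) (hφ0 : φ (X 0) = FT) (hφ1 : φ (X 1) = VT) :
    RingHom.ker f ≤ RingHom.ker φ := by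
  have hle : I₀ q ≤ RingHom.ker φ := by
    rw [Ideal.span_le, Set.singleton_subset_iff, SetLike.mem_coe, RingHom.mem_ker]
    rw [map_sub, map_mul, hφ0, hφ1, hFV, sub_eq_zero]
    have : (C (q : ℤ) : R) = ((q : ℤ) : R) := by simp
    rw [this, map_intCast]
    ext t
    simp
  have hle' : I₀ q ≤ RingHom.ker f := by
    rw [Ideal.span_le, Set.singleton_subset_iff, SetLike.mem_coe, RingHom.mem_ker]
    funext i
    rw [map_sub, map_mul, hf0, Pi.sub_apply, Pi.mul_apply, hf1]
    simp
  let φbar : A q →+* Module.End ℤ T := Ideal.Quotient.lift (I₀ q) φ fun a ha => hle ha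
  let fbar : A q →+* ((i : ι) → K i) := Ideal.Quotient.lift (I₀ q) f.toRingHom fun a ha => hle' ha
  have hfF : fbar (F q) = π := hf0
  have hfφ : φbar (F q) = FT := hφ0
  have haeval : ∀ G : Polynomial ℤ, ∀ i, fbar (Polynomial.aeval (F q) G) i = Polynomial.aeval (π i) G := by
    intro G i
    have e : (Pi.evalRingHom K i).comp (fbar.comp (Polynomial.aeval (F q) : Polynomial ℤ →ₐ[ℤ] A q).toRingHom) =
        (Polynomial.aeval (π i) : Polynomial ℤ →ₐ[ℤ] K i).toRingHom := by
      refine Polynomial.ringHom_ext' (RingHom.ext_int _ _) ?_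
      simp only [AlgHom.toRingHom_eq_coe, RingHom.coe_comp, RingHom.coe_coe, Function.comp_apply, Polynomial.aeval_X]
      rw [hfF]; rfl
    exact congrArg (fun f => f G) e
  have haevalφ : ∀ G : Polynomial ℤ, φbar (Polynomial.aeval (F q) G) = Polynomial.aeval FT G := by
    intro G
    have e : (φbar.comp (Polynomial.aeval (F q) : Polynomial ℤ →ₐ[ℤ] A q).toRingHom) =
        (Polynomial.aeval FT : Polynomial ℤ →ₐ[ℤ] Module.End ℤ T).toRingHom := by
      refine Polynomial.ringHom_ext' (RingHom.ext_int _ _) ?_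
      simp only [AlgHom.toRingHom_eq_coe, RingHom.coe_comp, RingHom.coe_coe, Function.comp_apply, Polynomial.aeval_X]
      exact hfφ
    exact congrArg (fun f => f G) e
  intro g hg
  obtain ⟨M, G, hG⟩ := exists_pow q (Ideal.Quotient.mk (I₀ q) g)
  have hg' : ∀ i, Polynomial.aeval (π i) G = 0 := by
    intro i
    have h0 : fbar (Ideal.Quotient.mk (I₀ q) g) = 0 := hg
    rw [← haeval, ← hG, map_mul, h0, mul_zero]; rfl
  obtain ⟨G', rfl⟩ := prod_dvd hint hinj G hg'
  have h1 := congrArg φbar hG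
  rw [map_mul, map_pow, haevalφ, map_mul, hP, zero_mul, hfφ] at h1
  have h2 : φ g = 0 := by
    ext t
    have h3 := congrArg (fun f => f t) h1
    have h4 : (FT ^ M) (φ g t) = 0 := h3
    have h5 : Function.Injective (FT ^ M) := by
      rw [Module.End.coe_pow]
      exact hinjF.iterate M
    exact h5 (by rw [h4]; simp)
  exact h2

end

end K944.WeilNum.ModStr
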