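import Groth.Agent.LoccohA.GorBC

/-!
# Gorenstein property of `B/J` from local comparison with other ideals
-/

set_option autoImplicit false

namespace K944.WeilNum.GorLoc

universe u

/-- If near every prime `P ⊇ J` the ideal `J` agrees with some `J'` with `B/J'` Gorenstein, then `B/J` is
Gorenstein. -/
theorem gor_of_local {B : Type u} [CommRing B] [IsNoetherianRing B] (J : Ideal B)
    (h : ∀ P : Ideal B, P.IsPrime → J ≤ P → ∃ J' : Ideal B, LocCoh.IsGorensteinRing (B ⧸ J') ∧
      ∃ t, t ∉ P ∧ (∀ x ∈ J, t * x ∈ J') ∧ (∀ x ∈ J', t * x ∈ J)) : LocCoh.IsGorensteinRing (B ⧸ J) := by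
  refine { isGorensteinLocalRing_localization := fun 𝔓 h𝔓 => ?_ }
  set P := 𝔓.comap (Ideal.Quotient.mk J) with hP
  have hPp : P.IsPrime := inferInstance
  have hJP : J ≤ P := by
    intro x hx
    rw [hP, Ideal.mem_comap, Ideal.Quotient.eq_zero_iff_mem.2 hx]
    exact Ideal.zero_mem _
  obtain ⟨J', hG, t, ht, h1, h2⟩ := h P hPp hJP
  have hJ'P : J' ≤ P := fun x hx => (hPp.mem_or_mem (hJP (h2 x hx))).resolve_left ht
  let C := Localization.AtPrime P
  have hmap : J.map (algebraMap B C) = J'.map (algebraMap B C) := by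
    have htu : IsUnit (algebraMap B C t) := IsLocalization.map_units C (⟨t, ht⟩ : P.primeCompl)
    apply le_antisymm
    · rw [Ideal.map_le_iff_le_comap]
      intro x hx
      have h3 : algebraMap B C (t * x) ∈ J'.map (algebraMap B C) := Ideal.mem_map_of_mem _ (h1 x hx)
      rw [map_mul] at h3
      exact (Ideal.unit_mul_mem_iff_mem _ htu).mp h3
    · rw [Ideal.map_le_iff_le_comap]
      intro x hx
      have h3 : algebraMap B C (t * x) ∈ J.map (algebraMap B C) := Ideal.mem_map_of_mem _ (h2 x hx)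
      rw [map_mul] at h3
      exact (Ideal.unit_mul_mem_iff_mem _ htu).mp h3
  -- the prime of `B/J'`
  let 𝔓' : Ideal (B ⧸ J') := P.map (Ideal.Quotient.mk J')
  have hcomap' : 𝔓'.comap (Ideal.Quotient.mk J') = P := by
    rw [Ideal.comap_map_of_surjective _ Ideal.Quotient.mk_surjective, ← RingHom.ker_eq_comap_bot, Ideal.mk_ker,
      sup_eq_left]
    exact hJ'P
  have h𝔓' : 𝔓'.IsPrime := by
    refine Ideal.map_isPrime_of_surjective Ideal.Quotient.mk_surjective ?_
    rw [Ideal.mk_ker]; exact hJ'P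
  have hM : ∀ (J₁ : Ideal B) (Q : Ideal (B ⧸ J₁)) [Q.IsPrime], Q.comap (Ideal.Quotient.mk J₁) = P →
      Algebra.algebraMapSubmonoid (B ⧸ J₁) P.primeCompl = Q.primeCompl := by
    intro J₁ Q _ hQ
    ext x
    constructor
    · rintro ⟨y, hy, rfl⟩
      intro hy'
      apply hy
      have : y ∈ Q.comap (Ideal.Quotient.mk J₁) := hy'
      rwa [hQ] at this
    · intro hx
      obtain ⟨y, rfl⟩ := Ideal.Quotient.mk_surjective x
      refine ⟨y, ?_, rfl⟩
      intro hy
      apply hx
      have : y ∈ Q.comap (Ideal.Quotient.mk J₁) := by rw [hQ]; exact hy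
      exact this
  have i1 : IsLocalization (Algebra.algebraMapSubmonoid (B ⧸ J) P.primeCompl)
      (C ⧸ J.map (algebraMap B C)) := inferInstance
  have i2 : IsLocalization (Algebra.algebraMapSubmonoid (B ⧸ J') P.primeCompl)
      (C ⧸ J'.map (algebraMap B C)) := inferInstance
  rw [hM J 𝔓 hP.symm] at i1
  rw [hM J' 𝔓' hcomap'] at i2
  have g1 : LocCoh.IsGorensteinLocalRing (Localization.AtPrime 𝔓') := hG.isGorensteinLocalRing_localization 𝔓'
  have e1 : Localization.AtPrime 𝔓' ≃+* (C ⧸ J'.map (algebraMap B C)) :=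
    (IsLocalization.algEquiv 𝔓'.primeCompl (Localization.AtPrime 𝔓') (C ⧸ J'.map (algebraMap B C))).toRingEquiv
  have e2 : (C ⧸ J.map (algebraMap B C)) ≃+* Localization.AtPrime 𝔓 :=
    (IsLocalization.algEquiv 𝔓.primeCompl (C ⧸ J.map (algebraMap B C)) (Localization.AtPrime 𝔓)).toRingEquiv
  exact Groth.Agent.LoccohA.GorBC.isGorensteinLocalRing_of_ringEquiv
    (e1.trans ((Ideal.quotEquivOfEq hmap.symm).trans e2)) g1

end K944.WeilNum.GorLoc
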