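import Groth.Agent.WeilNum.K944.Basic
import Mathlib.Algebra.MvPolynomial.CommRing
import Mathlib.Algebra.MvPolynomial.Eval
import Mathlib.Algebra.Polynomial.Laurent
import Mathlib.RingTheory.Regular.RegularSequence
import Mathlib.FieldTheory.Minpoly.IsIntegrallyClosed
import Mathlib.Tactic

/-!
# The ring `A = ℤ[F, V]/(FV - q)` and the symmetric form of a Weil polynomial
-/

set_option autoImplicit false

open MvPolynomial

namespace K944.WeilNum.Ker

/-- the polynomial ring `ℤ[F, V]`. -/
abbrev R : Type := MvPolynomial (Fin 2) ℤ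

/-- the ideal `(FV - q)` -/
noncomputable abbrev I₀ (q : ℕ) : Ideal R := Ideal.span {X 0 * X 1 - C (q : ℤ)}

/-- the ring `ℤ[F, V]/(FV - q)` -/
noncomputable abbrev A (q : ℕ) : Type := R ⧸ I₀ q

/-- the class of `F` -/
noncomputable abbrev F (q : ℕ) : A q := Ideal.Quotient.mk (I₀ q) (X 0)
/-- the class of `V` -/
noncomputable abbrev V (q : ℕ) : A q := Ideal.Quotient.mk (I₀ q) (X 1)

theorem F_mul_V (q : ℕ) : F q * V q = (q : A q) := by
  have : Ideal.Quotient.mk (I₀ q) (X 0 * X 1 - C (q : ℤ)) = 0 :=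
    Ideal.Quotient.eq_zero_iff_mem.mpr (Ideal.subset_span rfl)
  rw [map_sub, map_mul, sub_eq_zero] at this
  rw [this]
  simp

/-- evaluation at `F = 0`. -/
noncomputable def e0 : R →ₐ[ℤ] R := MvPolynomial.aeval ![0, X 1]

theorem X0_dvd_sub_e0 (a : R) : (X 0 : R) ∣ a - e0 a := by
  induction a using MvPolynomial.induction_on with
  | C a =>
    rw [show e0 (C a) = C a from MvPolynomial.aeval_C _ _, sub_self]; exact dvd_zero _
  | add f g hf hg =>
    rw [map_add]
    have := dvd_add hf hg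
    convert this using 1
    ring
  | mul_X f i hf =>
    rw [map_mul]
    have e : f * X i - e0 f * e0 (X i) = (f - e0 f) * X i + e0 f * (X i - e0 (X i)) := by ring
    rw [e]
    refine dvd_add (Dvd.dvd.mul_right hf _) (Dvd.dvd.mul_left ?_ _)
    fin_cases i
    · simp [e0]
    · simp [e0]

variable {q : ℕ} (hq : 0 < q)

include hq in
theorem F_mul_eq_zero {x : A q} (hx : F q * x = 0) : x = 0 := by
  obtain ⟨g, rfl⟩ := Ideal.Quotient.mk_surjective x
  rw [← map_mul, Ideal.Quotient.eq_zero_iff_mem, Ideal.mem_span_singleton] at hx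
  obtain ⟨a, ha⟩ := hx
  have h1 := congrArg e0 ha
  rw [map_mul, map_mul, map_sub, map_mul] at h1
  have h0 : e0 (X 0) = 0 := by simp [e0]
  have hC : e0 (C (q : ℤ)) = C (q : ℤ) := MvPolynomial.aeval_C _ _
  rw [h0, hC, zero_mul, zero_mul, zero_sub] at h1
  have hq0 : (C (q : ℤ) : R) ≠ 0 := by
    rw [Ne, MvPolynomial.C_eq_zero]; exact_mod_cast hq.ne'
  have h2 : e0 a = 0 := by
    have := h1.symm
    rw [neg_mul, neg_eq_zero, mul_eq_zero] at this
    exact this.resolve_left hq0
  obtain ⟨a', ha'⟩ := X0_dvd_sub_e0 a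
  rw [h2, sub_zero] at ha'
  have h3 : g = (X 0 * X 1 - C (q : ℤ)) * a' := by
    have hX : (X 0 : R) ≠ 0 := MvPolynomial.X_ne_zero 0
    apply mul_left_cancel₀ hX
    rw [ha, ha']; ring
  rw [Ideal.Quotient.eq_zero_iff_mem, Ideal.mem_span_singleton]
  exact ⟨a', h3⟩

include hq in
theorem F_pow_mul_eq_zero {x : A q} (n : ℕ) (hx : F q ^ n * x = 0) : x = 0 := by
  induction n with
  | zero => rwa [pow_zero, one_mul] at hx
  | succ n ih =>
    rw [pow_succ, mul_assoc, mul_comm, mul_assoc] at hx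
    refine ih (F_mul_eq_zero hq ?_)
    rw [← hx]; ring

theorem exists_pow (q : ℕ) (x : A q) : ∃ (M : ℕ) (G : Polynomial ℤ), F q ^ M * x = Polynomial.aeval (F q) G := by
  obtain ⟨g, rfl⟩ := Ideal.Quotient.mk_surjective x
  induction g using MvPolynomial.induction_on with
  | C a =>
    refine ⟨0, Polynomial.C a, ?_⟩
    rw [pow_zero, one_mul, Polynomial.aeval_C]
    simp
  | add f g hf hg =>
    obtain ⟨M, G, h⟩ := hf
    obtain ⟨M', G', h'⟩ := hg
    refine ⟨M + M', Polynomial.X ^ M' * G + Polynomial.X ^ M * G', ?_⟩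
    rw [map_add, map_add, map_mul, map_mul, map_pow, map_pow, Polynomial.aeval_X, ← h, ← h']
    ring
  | mul_X f i hf =>
    obtain ⟨M, G, h⟩ := hf
    fin_cases i
    · refine ⟨M, G * Polynomial.X, ?_⟩
      rw [map_mul, map_mul, Polynomial.aeval_X, ← h]
      simp only [Fin.zero_eta]
      ring
    · refine ⟨M + 1, G * Polynomial.C (q : ℤ), ?_⟩
      rw [map_mul, map_mul, Polynomial.aeval_C, ← h]
      have := F_mul_V q
      simp only [Fin.mk_one, eq_intCast, Int.cast_natCast]
      rw [← this]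
      ring

/-- the map to Laurent polynomials. -/
noncomputable def toL (q : ℕ) : A q →+* LaurentPolynomial ℤ :=
  Ideal.Quotient.lift (I₀ q)
    (MvPolynomial.aeval ![LaurentPolynomial.T 1, (q : LaurentPolynomial ℤ) * LaurentPolynomial.T (-1)] :
      R →ₐ[ℤ] LaurentPolynomial ℤ).toRingHom (by
    intro a ha
    have : I₀ q ≤ RingHom.ker (MvPolynomial.aeval ![LaurentPolynomial.T 1,
        (q : LaurentPolynomial ℤ) * LaurentPolynomial.T (-1)] : R →ₐ[ℤ] LaurentPolynomial ℤ).toRingHom := by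
      rw [Ideal.span_le, Set.singleton_subset_iff, SetLike.mem_coe, RingHom.mem_ker]
      simp only [AlgHom.toRingHom_eq_coe, RingHom.coe_coe, map_sub, map_mul, MvPolynomial.aeval_X,
        MvPolynomial.aeval_C, Matrix.cons_val_zero, Matrix.cons_val_one]
      rw [mul_left_comm, ← LaurentPolynomial.T_add]
      simp
    exact this ha)

theorem aeval_F_injective (G : Polynomial ℤ) (h : Polynomial.aeval (F q) G = 0) : G = 0 := by
  have h1 : (toL q) (Polynomial.aeval (F q) G) = Polynomial.toLaurent G := by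
    have e : ((toL q).comp (Polynomial.aeval (F q) : Polynomial ℤ →ₐ[ℤ] A q).toRingHom) =
        (Polynomial.toLaurent : Polynomial ℤ →+* LaurentPolynomial ℤ) := by
      refine Polynomial.ringHom_ext' (RingHom.ext_int _ _) ?_
      simp [toL, F]
    exact congrArg (fun f => f G) e
  rw [h, map_zero] at h1
  exact Polynomial.toLaurent_injective (by rw [← h1, map_zero])

theorem exists_decomp (q : ℕ) (x : A q) : ∃ (y : A q) (g : Polynomial ℤ), x = F q * y + Polynomial.aeval (V q) g := by
  obtain ⟨g, rfl⟩ := Ideal.Quotient.mk_surjective x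
  induction g using MvPolynomial.induction_on with
  | C a =>
    refine ⟨0, Polynomial.C a, ?_⟩
    rw [mul_zero, zero_add, Polynomial.aeval_C]
    simp
  | add f g hf hg =>
    obtain ⟨y, G, h⟩ := hf
    obtain ⟨y', G', h'⟩ := hg
    refine ⟨y + y', G + G', ?_⟩
    rw [map_add, map_add, h, h']
    ring
  | mul_X f i hf =>
    obtain ⟨y, G, h⟩ := hf
    fin_cases i
    · refine ⟨F q * y + Polynomial.aeval (V q) G, 0, ?_⟩
      rw [map_mul, h, map_zero]
      simp only [Fin.zero_eta]
      ring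
    · refine ⟨y * V q, G * Polynomial.X, ?_⟩
      rw [map_mul, map_mul, Polynomial.aeval_X, h]
      simp only [Fin.mk_one]
      ring

/-- the map `A → (ℤ/q)[V]`. -/
noncomputable def rho (q : ℕ) : A q →+* Polynomial (ZMod q) :=
  Ideal.Quotient.lift (I₀ q)
    (MvPolynomial.aeval ![0, Polynomial.X] : R →ₐ[ℤ] Polynomial (ZMod q)).toRingHom (by
    intro a ha
    have : I₀ q ≤ RingHom.ker (MvPolynomial.aeval ![0, Polynomial.X] : R →ₐ[ℤ] Polynomial (ZMod q)).toRingHom := by
      rw [Ideal.span_le, Set.singleton_subset_iff, SetLike.mem_coe, RingHom.mem_ker]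
      simp only [AlgHom.toRingHom_eq_coe, RingHom.coe_coe, map_sub, map_mul, MvPolynomial.aeval_X,
        MvPolynomial.aeval_C, Matrix.cons_val_zero, Matrix.cons_val_one]
      simp
    exact this ha)

theorem rho_F : rho q (F q) = 0 := by simp [rho, F]

theorem rho_V : rho q (V q) = Polynomial.X := by simp [rho, V]

theorem rho_aeval_V (g : Polynomial ℤ) : rho q (Polynomial.aeval (V q) g) = g.map (Int.castRingHom (ZMod q)) := by
  have e : ((rho q).comp (Polynomial.aeval (V q) : Polynomial ℤ →ₐ[ℤ] A q).toRingHom) =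
        (Polynomial.mapRingHom (Int.castRingHom (ZMod q))) := by
    refine Polynomial.ringHom_ext' (RingHom.ext_int _ _) ?_
    simp [rho, V]
  exact congrArg (fun f => f g) e

theorem dvd_of_rho_eq_zero {x : A q} (hx : rho q x = 0) : F q ∣ x := by
  obtain ⟨y, g, rfl⟩ := exists_decomp q x
  rw [map_add, map_mul, rho_F, zero_mul, zero_add, rho_aeval_V] at hx
  have hg : ∃ g' : Polynomial ℤ, g = Polynomial.C (q : ℤ) * g' := by
    have : ∀ n, (q : ℤ) ∣ g.coeff n := by
      intro n
      have := congrArg (fun f => Polynomial.coeff f n) hx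
      rw [Polynomial.coeff_map, Polynomial.coeff_zero] at this
      rw [← ZMod.intCast_zmod_eq_zero_iff_dvd]
      exact this
    exact (Polynomial.C_dvd_iff_dvd_coeff _ _).mpr this
  obtain ⟨g', rfl⟩ := hg
  refine dvd_add (dvd_mul_right _ _) ?_
  rw [map_mul, Polynomial.aeval_C]
  refine Dvd.dvd.mul_right ?_ _
  refine ⟨V q, ?_⟩
  rw [F_mul_V]
  simp

end K944.WeilNum.Ker
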