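import Groth.Agent.WeilNum.K944.Order

/-!
# Adding one rational Weil number `s`, `s² = q`: the kernel
-/

set_option autoImplicit false

open MvPolynomial

namespace K944.WeilNum.Sq

open K944.WeilNum.Ker K944.WeilNum.Sym K944.WeilNum.Basic K944.WeilNum.Order

universe u

/-- evaluation `F, V ↦ s` when `s² = q`. -/
noncomputable def ev (q : ℕ) (s : ℤ) (hs : s * s = (q : ℤ)) : A q →+* ℤ :=
  Ideal.Quotient.lift (I₀ q) (MvPolynomial.aeval ![s, s] : R →ₐ[ℤ] ℤ).toRingHom (by
    intro a ha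
    have : I₀ q ≤ RingHom.ker (MvPolynomial.aeval ![s, s] : R →ₐ[ℤ] ℤ).toRingHom := by
      rw [Ideal.span_le, Set.singleton_subset_iff, SetLike.mem_coe, RingHom.mem_ker]
      simp only [AlgHom.toRingHom_eq_coe, RingHom.coe_coe, map_sub, map_mul, MvPolynomial.aeval_X,
        MvPolynomial.aeval_C, Matrix.cons_val_zero, Matrix.cons_val_one]
      rw [hs]
      simp
    exact this ha)

variable {q : ℕ} {s : ℤ} (hs : s * s = (q : ℤ))

theorem ev_F : ev q s hs (F q) = s := by simp [ev, F]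
theorem ev_V : ev q s hs (V q) = s := by simp [ev, V]

theorem ev_mk (g : R) : ev q s hs (Ideal.Quotient.mk _ g) = MvPolynomial.aeval ![s, s] g := rfl

theorem ev_aeval (G : Polynomial ℤ) : ev q s hs (Polynomial.aeval (F q) G) = Polynomial.eval s G := by
  have e : ((ev q s hs).comp (Polynomial.aeval (F q) : Polynomial ℤ →ₐ[ℤ] A q).toRingHom) =
        (Polynomial.evalRingHom s) := by
    refine Polynomial.ringHom_ext' (RingHom.ext_int _ _) ?_
    simp [ev, F]
  exact congrArg (fun f => f G) e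

/-- every element is `ev x + (F - s) a + (V - s) b`. -/
theorem exists_ev (x : A q) : ∃ a b : A q, x = (ev q s hs x : A q) + (F q - (s : A q)) * a + (V q - (s : A q)) * b := by
  obtain ⟨g, rfl⟩ := Ideal.Quotient.mk_surjective x
  induction g using MvPolynomial.induction_on with
  | C a =>
    refine ⟨0, 0, ?_⟩
    rw [ev_mk]
    simp
  | add f g hf hg =>
    obtain ⟨a, b, h⟩ := hf
    obtain ⟨a', b', h'⟩ := hg
    refine ⟨a + a', b + b', ?_⟩
    rw [map_add, map_add, Int.cast_add]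
    linear_combination h + h'
  | mul_X f i hf =>
    obtain ⟨a, b, h⟩ := hf
    rw [map_mul, map_mul, Int.cast_mul]
    fin_cases i
    · refine ⟨a * F q + ((ev q s hs (Ideal.Quotient.mk _ f) : ℤ) : A q), b * F q, ?_⟩
      have e1 : ev q s hs (Ideal.Quotient.mk _ (X ((fun i => i) ⟨0, by omega⟩))) = s := ev_F hs
      rw [e1]
      simp only [Fin.zero_eta]
      linear_combination F q * h
    · refine ⟨a * V q, b * V q + ((ev q s hs (Ideal.Quotient.mk _ f) : ℤ) : A q), ?_⟩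
      have e1 : ev q s hs (Ideal.Quotient.mk _ (X ((fun i => i) ⟨1, by omega⟩))) = s := ev_V hs
      rw [e1]
      simp only [Fin.mk_one]
      linear_combination V q * h

theorem exists_of_ev_eq_zero {x : A q} (hx : ev q s hs x = 0) :
    ∃ a b : A q, x = (F q - (s : A q)) * a + (V q - (s : A q)) * b := by
  obtain ⟨a, b, h⟩ := exists_ev hs x
  refine ⟨a, b, ?_⟩
  rw [h, hx]; simp

section Family

variable {ι : Type} [Fintype ι] {K : ι → Type u} [∀ i, Field (K i)] [∀ i, CharZero (K i)]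
    {π : ∀ i, K i}

/-- an irreducible monic polynomial of degree `≠ 1` has no integer root. -/
theorem eval_minpoly_ne_zero {L : Type*} [Field L] [CharZero L] {x : L} (hx : IsIntegral ℤ x)
    (hdeg : (minpoly ℤ x).natDegree ≠ 1) (s : ℤ) : Polynomial.eval s (minpoly ℤ x) ≠ 0 := by
  intro h0
  have h1 : (Polynomial.X - Polynomial.C s) ∣ minpoly ℤ x := Polynomial.dvd_iff_isRoot.mpr h0
  have hirr : Irreducible (minpoly ℤ x) := minpoly.irreducible hx
  have h2 : Associated (Polynomial.X - Polynomial.C s) (minpoly ℤ x) :=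
    (Polynomial.prime_X_sub_C s).irreducible.associated_of_dvd hirr h1
  have h3 := Polynomial.eq_of_monic_of_associated (Polynomial.monic_X_sub_C s) (minpoly.monic hx) h2
  rw [← h3] at hdeg
  exact hdeg (Polynomial.natDegree_X_sub_C s)

theorem eval_prod_ne_zero (hint : ∀ i, IsIntegral ℤ (π i)) (hdeg : ∀ i, (minpoly ℤ (π i)).natDegree ≠ 1) (s : ℤ) :
    Polynomial.eval s (∏ i, minpoly ℤ (π i)) ≠ 0 := by
  rw [Polynomial.eval_prod, Finset.prod_ne_zero_iff]
  intro i _
  exact eval_minpoly_ne_zero (hint i) (hdeg i) s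

theorem ev_h_ne_zero {P : Polynomial ℤ} {D : ℕ} {h : A q} (H : Good q P D h) (hP : Polynomial.eval s P ≠ 0) :
    ev q s hs h ≠ 0 := by
  intro h0
  have := congrArg (ev q s hs) H.eq
  rw [map_mul, h0, mul_zero, ev_aeval] at this
  exact hP this.symm

include hs in
/-- The kernel of the map to `(∏ K_i) × ℚ`. -/
theorem ker_eq {f : R →ₐ[ℤ] ((i : ι) → K i)} (Hf : Fam q π f)
    (hP : Polynomial.eval s (∏ i, minpoly ℤ (π i)) ≠ 0)
    (D : ℕ) (h : R) (H : Good q (∏ i, minpoly ℤ (π i)) D (Ideal.Quotient.mk (I₀ q) h))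
    (f' : R →ₐ[ℤ] (((i : ι) → K i) × ℚ)) (hf' : ∀ g, f' g = (f g, ((MvPolynomial.aeval ![s, s] g : ℤ) : ℚ))) :
    RingHom.ker f' = Ideal.span {X 0 * X 1 - C (q : ℤ), h * (X 0 - C s), h * (X 1 - C s)} := by
  have hker := Sym.ker_eq Hf.hq Hf.int Hf.weil Hf.inj D h H f Hf.f0 Hf.f1
  have hmem : ∀ g, g ∈ RingHom.ker f' ↔ g ∈ RingHom.ker f ∧ ev q s hs (Ideal.Quotient.mk _ g) = 0 := by
    intro g
    rw [RingHom.mem_ker, RingHom.mem_ker, hf', Prod.ext_iff, ev_mk]
    simp
  have hC : ∀ n : ℤ, (Ideal.Quotient.mk (I₀ q) (C n : R)) = (n : A q) := fun n => by simp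
  apply le_antisymm
  · intro g hg
    rw [hmem, hker, Ideal.mem_span_pair] at hg
    obtain ⟨⟨a, b, rfl⟩, hev⟩ := hg
    have h1 : Ideal.Quotient.mk (I₀ q) (X 0 * X 1 - C (q : ℤ)) = 0 :=
      Ideal.Quotient.eq_zero_iff_mem.mpr (Ideal.subset_span rfl)
    rw [map_add, map_mul (Ideal.Quotient.mk _), h1, mul_zero, zero_add, map_mul (Ideal.Quotient.mk _), map_mul,
      mul_eq_zero] at hev
    have h2 := hev.resolve_right (ev_h_ne_zero hs H hP)
    obtain ⟨x, y, hxy⟩ := exists_of_ev_eq_zero hs h2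
    obtain ⟨x, rfl⟩ := Ideal.Quotient.mk_surjective x
    obtain ⟨y, rfl⟩ := Ideal.Quotient.mk_surjective y
    have h3 : Ideal.Quotient.mk (I₀ q) b = Ideal.Quotient.mk (I₀ q) ((X 0 - C s) * x + (X 1 - C s) * y) := by
      rw [hxy, map_add, map_mul, map_mul, map_sub, map_sub, hC]
    rw [Ideal.Quotient.eq, Ideal.mem_span_singleton] at h3
    obtain ⟨z, hz⟩ := h3
    have h4 : b = (X 0 - C s) * x + (X 1 - C s) * y + (X 0 * X 1 - C (q : ℤ)) * z := by
      rw [← hz]; ring
    rw [h4]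
    have m0 : (X 0 * X 1 - C (q : ℤ) : R) ∈ Ideal.span {X 0 * X 1 - C (q : ℤ), h * (X 0 - C s), h * (X 1 - C s)} :=
      Ideal.subset_span (by simp)
    have m1 : (h * (X 0 - C s) : R) ∈ Ideal.span {X 0 * X 1 - C (q : ℤ), h * (X 0 - C s), h * (X 1 - C s)} :=
      Ideal.subset_span (by simp)
    have m2 : (h * (X 1 - C s) : R) ∈ Ideal.span {X 0 * X 1 - C (q : ℤ), h * (X 0 - C s), h * (X 1 - C s)} :=
      Ideal.subset_span (by simp)
    have e : a * (X 0 * X 1 - C (q : ℤ)) + ((X 0 - C s) * x + (X 1 - C s) * y + (X 0 * X 1 - C (q : ℤ)) * z) * h =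
        (a + z * h) * (X 0 * X 1 - C (q : ℤ)) + x * (h * (X 0 - C s)) + y * (h * (X 1 - C s)) := by ring
    rw [e]
    exact Ideal.add_mem _ (Ideal.add_mem _ (Ideal.mul_mem_left _ _ m0) (Ideal.mul_mem_left _ _ m1))
      (Ideal.mul_mem_left _ _ m2)
  · rw [Ideal.span_le]
    rintro x (rfl | rfl | rfl)
    · rw [SetLike.mem_coe, hmem, hker]
      refine ⟨Ideal.subset_span (by simp), ?_⟩
      have h1 : Ideal.Quotient.mk (I₀ q) (X 0 * X 1 - C (q : ℤ)) = 0 :=
        Ideal.Quotient.eq_zero_iff_mem.mpr (Ideal.subset_span rfl)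
      rw [h1, map_zero]
    · rw [SetLike.mem_coe, hmem, hker]
      refine ⟨Ideal.mul_mem_right _ _ (Ideal.subset_span (by simp)), ?_⟩
      rw [map_mul, map_sub, hC, map_mul, map_sub, map_intCast, ev_F hs]
      simp
    · rw [SetLike.mem_coe, hmem, hker]
      refine ⟨Ideal.mul_mem_right _ _ (Ideal.subset_span (by simp)), ?_⟩
      rw [map_mul, map_sub, hC, map_mul, map_sub, map_intCast, ev_V hs]
      simp

end Family

end K944.WeilNum.Sq
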