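import Groth.Agent.WeilNum.K944.Sq
import Groth.Agent.WeilNum.K944.Gor
import Groth.Agent.WeilNum.K944.GorLoc

/-!
# Adding one rational Weil number `s`, `s² = q`: Gorenstein if ordinary
-/

set_option autoImplicit false

open MvPolynomial

namespace K944.WeilNum.SqGor

open K944.WeilNum.Ker K944.WeilNum.Sym K944.WeilNum.Basic K944.WeilNum.Sq

universe u

/-- the ring equivalence `ULift R ≃ R` -/
noncomputable abbrev eR : ULift.{u} R ≃+* R := ULift.ringEquiv

/-- Gorenstein quotient, in universe `u` -/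
def GorQ (J : Ideal R) : Prop := LocCoh.IsGorensteinRing (ULift.{u} R ⧸ J.comap (eR.{u} : ULift.{u} R →+* R))

theorem gorQ_iff {S : Type u} [CommRing S] (θ : R →+* S) (hθ : Function.Surjective θ) :
    GorQ.{u} (RingHom.ker θ) ↔ LocCoh.IsGorensteinRing S := by
  let θ' : ULift.{u} R →+* S := θ.comp (eR.{u} : ULift.{u} R →+* R)
  have hθ' : Function.Surjective θ' := hθ.comp eR.{u}.surjective
  have hk : RingHom.ker θ' = (RingHom.ker θ).comap (eR.{u} : ULift.{u} R →+* R) := by
    ext x; rfl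
  let E := (Ideal.quotEquivOfEq hk.symm).trans (RingHom.quotientKerEquivOfSurjective hθ')
  exact ⟨fun h => Groth.Agent.LoccohA.GorBC.isGorensteinRing_of_ringEquiv E h,
    fun h => Groth.Agent.LoccohA.GorBC.isGorensteinRing_of_ringEquiv E.symm h⟩

theorem gorQ_of_local (J : Ideal R)
    (h : ∀ P : Ideal R, P.IsPrime → J ≤ P → ∃ J' : Ideal R, GorQ.{u} J' ∧
      ∃ t, t ∉ P ∧ (∀ x ∈ J, t * x ∈ J') ∧ (∀ x ∈ J', t * x ∈ J)) : GorQ.{u} J := by
  have hGG := Gor.gor_ulift.{u}
  have : IsNoetherianRing (ULift.{u} R) := inferInstance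
  refine GorLoc.gor_of_local _ fun P' hP' hle => ?_
  obtain ⟨J', hG, t, ht, h1, h2⟩ := h (P'.comap (eR.{u}.symm : R →+* ULift.{u} R)) inferInstance (by
    intro x hx
    rw [Ideal.mem_comap]
    exact hle (by rw [Ideal.mem_comap]; simpa using hx))
  refine ⟨_, hG, eR.{u}.symm t, ht, fun x hx => ?_, fun x hx => ?_⟩
  · have := h1 _ hx
    rw [Ideal.mem_comap]
    simpa using this
  · have := h2 _ hx
    rw [Ideal.mem_comap]
    simpa using this

/-- pair quotients -/
theorem gorQ_pair (a b : R) (ha : ∀ x, a * x = 0 → x = 0) (hb : ∀ x, a ∣ b * x → a ∣ x) :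
    GorQ.{u} (Ideal.span {a, b}) := by
  let e := eR.{u}
  let θ := Ideal.Quotient.mk ((Ideal.span {a, b}).comap (e : ULift.{u} R →+* R))
  refine Gor.gor_of_pair Gor.gor_ulift.{u} θ Ideal.Quotient.mk_surjective (e.symm a) (e.symm b) ?_ ?_ ?_
  · ext x
    rw [Ideal.mk_ker, Ideal.mem_comap, Ideal.mem_span_pair, Ideal.mem_span_pair]
    constructor
    · rintro ⟨c, d, hcd⟩
      refine ⟨e.symm c, e.symm d, ?_⟩
      rw [← map_mul, ← map_mul, ← map_add, hcd]
      exact e.symm_apply_apply x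
    · rintro ⟨c, d, hcd⟩
      refine ⟨e c, e d, ?_⟩
      rw [← hcd]
      change _ = e _
      rw [map_add, map_mul, map_mul, e.apply_symm_apply, e.apply_symm_apply]
  · intro x hx
    have h2 := congrArg e hx
    rw [map_mul, e.apply_symm_apply, map_zero] at h2
    exact e.injective (by rw [map_zero]; exact ha _ h2)
  · rintro x ⟨y, hy⟩
    have h2 := congrArg e hy
    rw [map_mul, map_mul, e.apply_symm_apply, e.apply_symm_apply] at h2
    obtain ⟨z, hz⟩ := hb _ ⟨_, h2⟩
    refine ⟨e.symm z, e.injective ?_⟩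
    rw [map_mul, e.apply_symm_apply, e.apply_symm_apply, hz]

variable {q : ℕ} {s : ℤ} (hs : s * s = (q : ℤ))

/-- `ℤ[F,V]/(F - s, V - s) = ℤ`. -/
theorem gorQ_point (s : ℤ) : GorQ.{u} (Ideal.span {X 0 - C s, X 1 - C s}) := by
  let θ : R →+* ULift.{u} ℤ :=
    (ULift.ringEquiv.symm : ℤ ≃+* ULift.{u} ℤ).toRingHom.comp (MvPolynomial.aeval ![s, s] : R →ₐ[ℤ] ℤ).toRingHom
  have hθ : Function.Surjective θ := by
    intro n
    refine ⟨C n.down, ?_⟩
    simp only [θ, RingHom.coe_comp, Function.comp_apply, AlgHom.toRingHom_eq_coe, RingHom.coe_coe,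
      MvPolynomial.aeval_C]
    rfl
  have hdec : ∀ g : R, ∃ a b : R, g = C (MvPolynomial.aeval ![s, s] g) + (X 0 - C s) * a + (X 1 - C s) * b := by
    intro g
    induction g using MvPolynomial.induction_on with
    | C a => exact ⟨0, 0, by simp⟩
    | add f g hf hg =>
      obtain ⟨a, b, h⟩ := hf
      obtain ⟨a', b', h'⟩ := hg
      refine ⟨a + a', b + b', ?_⟩
      rw [map_add, C_add]
      linear_combination h + h'
    | mul_X f i hf =>
      obtain ⟨a, b, h⟩ := hf
      rw [map_mul, C_mul]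
      fin_cases i
      · refine ⟨a * X 0 + C (MvPolynomial.aeval ![s, s] f), b * X 0, ?_⟩
        simp only [Fin.zero_eta, MvPolynomial.aeval_X, Matrix.cons_val_zero]
        linear_combination X 0 * h
      · refine ⟨a * X 1, b * X 1 + C (MvPolynomial.aeval ![s, s] f), ?_⟩
        simp only [Fin.mk_one, MvPolynomial.aeval_X, Matrix.cons_val_one, Matrix.cons_val_zero]
        linear_combination X 1 * h
  have hker : RingHom.ker θ = Ideal.span {X 0 - C s, X 1 - C s} := by
    apply le_antisymm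
    · intro g hg
      have h1 : (MvPolynomial.aeval ![s, s] : R →ₐ[ℤ] ℤ) g = 0 := by
        have : (ULift.ringEquiv.symm : ℤ ≃+* ULift.{u} ℤ) (MvPolynomial.aeval ![s, s] g) = 0 := hg
        exact (ULift.ringEquiv.symm : ℤ ≃+* ULift.{u} ℤ).injective (by rw [this, map_zero])
      obtain ⟨a, b, h⟩ := hdec g
      rw [h, h1, C_0, zero_add]
      exact Ideal.add_mem _ (Ideal.mul_mem_right _ _ (Ideal.subset_span (by simp)))
        (Ideal.mul_mem_right _ _ (Ideal.subset_span (by simp)))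
    · rw [Ideal.span_le]
      rintro x (rfl | rfl)
      · rw [SetLike.mem_coe, RingHom.mem_ker]
        simp [θ]
      · rw [SetLike.mem_coe, RingHom.mem_ker]
        simp [θ]
  have := Gor.pid.{u}
  have := Gor.dom.{u}
  rw [← hker, gorQ_iff θ hθ]
  exact Groth.Agent.LoccohA.GorBC.isGorensteinRing_of_isPrincipalIdealRing _

theorem base_ne_zero (hq : 0 < q) : (X 0 * X 1 - C (q : ℤ) : R) ≠ 0 := by
  intro h0
  have h1 := congrArg (MvPolynomial.aeval (![0, 0] : Fin 2 → ℤ)) h0
  simp at h1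
  omega

/-- `F - s` is a nonzerodivisor in `A`. -/
theorem F_sub_mul_eq_zero (hq : 0 < q) (s : ℤ) {x : A q} (hx : (F q - (s : A q)) * x = 0) : x = 0 := by
  obtain ⟨M, G, hG⟩ := exists_pow q x
  have h1 : Polynomial.aeval (F q) ((Polynomial.X - Polynomial.C s) * G) = 0 := by
    rw [map_mul, ← hG, map_sub, Polynomial.aeval_X, Polynomial.aeval_C, eq_intCast]
    calc _ = F q ^ M * ((F q - (s : A q)) * x) := by ring
      _ = 0 := by rw [hx, mul_zero]
  have h2 := aeval_F_injective _ h1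
  have h3 : G = 0 := (Polynomial.monic_X_sub_C s).mul_right_eq_zero_iff.mp h2
  rw [h3, map_zero] at hG
  exact F_pow_mul_eq_zero hq M hG

theorem gorQ_h (hq : 0 < q) {P : Polynomial ℤ} {D : ℕ} {h : R}
    (H : Good q P D (Ideal.Quotient.mk (I₀ q) h)) : GorQ.{u} (Ideal.span {X 0 * X 1 - C (q : ℤ), h}) := by
  refine gorQ_pair _ _ (fun x hx => (mul_eq_zero.mp hx).resolve_left (base_ne_zero hq)) fun x hx => ?_
  have h3 : (Ideal.Quotient.mk (I₀ q) h) * (Ideal.Quotient.mk (I₀ q) x) = 0 := by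
    rw [← map_mul, Ideal.Quotient.eq_zero_iff_mem, Ideal.mem_span_singleton]
    exact hx
  have h4 := H.mul_eq_zero hq h3
  rwa [Ideal.Quotient.eq_zero_iff_mem, Ideal.mem_span_singleton] at h4

theorem gorQ_hF (hq : 0 < q) {P : Polynomial ℤ} {D : ℕ} {h : R}
    (H : Good q P D (Ideal.Quotient.mk (I₀ q) h)) (s : ℤ) :
    GorQ.{u} (Ideal.span {X 0 * X 1 - C (q : ℤ), h * (X 0 - C s)}) := by
  refine gorQ_pair _ _ (fun x hx => (mul_eq_zero.mp hx).resolve_left (base_ne_zero hq)) fun x hx => ?_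
  have h3 : (Ideal.Quotient.mk (I₀ q) h) * ((F q - (s : A q)) * (Ideal.Quotient.mk (I₀ q) x)) = 0 := by
    have e : (F q - (s : A q)) = Ideal.Quotient.mk (I₀ q) (X 0 - C s) := by rw [map_sub]; simp
    rw [e, ← map_mul, ← map_mul, Ideal.Quotient.eq_zero_iff_mem, Ideal.mem_span_singleton, ← mul_assoc]
    exact hx
  have h4 := F_sub_mul_eq_zero hq s (H.mul_eq_zero hq h3)
  rwa [Ideal.Quotient.eq_zero_iff_mem, Ideal.mem_span_singleton] at h4

/-- The symmetric form modulo `(F, V)`. -/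
theorem h0_eq (P : Polynomial ℤ) (D : ℕ) (ε : ℤ) :
    ∃ a b : A q, h0 q P D ε = (P.coeff D : A q) + F q * a + V q * b := by
  refine ⟨∑ r ∈ Finset.range D, (P.coeff (D + (r + 1)) : A q) * F q ^ r,
    (ε : A q) * ∑ r ∈ Finset.range D, (P.coeff (D + (r + 1)) : A q) * V q ^ r, ?_⟩
  rw [h0, Finset.sum_range_succ', Finset.mul_sum, Finset.mul_sum, Finset.mul_sum, Finset.mul_sum, pow_zero, mul_one,
    add_zero, add_comm (∑ k ∈ Finset.range D, _)]
  congr 1
  · congr 1
    refine Finset.sum_congr rfl fun r _ => by ring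
  · refine Finset.sum_congr rfl fun r _ => by ring

include hs in
/-- Gorenstein if `p` does not divide the middle coefficient. -/
theorem gorQ_of_ordinary (hq : 0 < q) (p e : ℕ) (he : 0 < e) (hp : p.Prime) (hqp : q = p ^ e) {P : Polynomial ℤ} {D : ℕ} {h : R}
    (H : Good q P D (Ideal.Quotient.mk (I₀ q) h)) (hord : ¬ (p : ℤ) ∣ P.coeff D) :
    GorQ.{u} (Ideal.span {X 0 * X 1 - C (q : ℤ), h * (X 0 - C s), h * (X 1 - C s)}) := by
  set J : Ideal R := Ideal.span {X 0 * X 1 - C (q : ℤ), h * (X 0 - C s), h * (X 1 - C s)} with hJ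
  have m0 : (X 0 * X 1 - C (q : ℤ) : R) ∈ J := Ideal.subset_span (by simp)
  have m1 : (h * (X 0 - C s) : R) ∈ J := Ideal.subset_span (by simp)
  have m2 : (h * (X 1 - C s) : R) ∈ J := Ideal.subset_span (by simp)
  have hCs : (C s : R) * C s = C (q : ℤ) := by rw [← C_mul, hs]
  refine gorQ_of_local J fun P' hP' hle => ?_
  by_cases hh : h ∈ P'
  · by_cases hpP : (C (p : ℤ) : R) ∈ P'
    · -- case (c)
      have hsP : (C s : R) ∈ P' := by
        have h1 : (C s : R) * C s ∈ P' := by
          rw [hCs, hqp]; push_cast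
          rw [C_pow]
          exact Ideal.pow_mem_of_mem _ hpP e he
        exact (hP'.mem_or_mem h1).elim id id
      have key : (X 0 - C s : R) ∉ P' ∨ (X 1 - C s : R) ∉ P' := by
        by_contra hcon
        push Not at hcon
        obtain ⟨ε, hε1, hε, _, h0e⟩ := H.eq_h0 hq
        obtain ⟨a, b, hab⟩ := h0_eq (q := q) P D ε
        obtain ⟨a, rfl⟩ := Ideal.Quotient.mk_surjective a
        obtain ⟨b, rfl⟩ := Ideal.Quotient.mk_surjective b
        have h2 : Ideal.Quotient.mk (I₀ q) h = Ideal.Quotient.mk (I₀ q) (C (P.coeff D) + X 0 * a + X 1 * b) := by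
          rw [h0e, hab, map_add, map_add, map_mul, map_mul]
          simp
        rw [Ideal.Quotient.eq] at h2
        have h3 : I₀ q ≤ P' := by
          rw [Ideal.span_le, Set.singleton_subset_iff]; exact hle m0
        have hX0 : (X 0 : R) ∈ P' := by
          have := Ideal.add_mem _ hcon.1 hsP
          rwa [sub_add_cancel] at this
        have hX1 : (X 1 : R) ∈ P' := by
          have := Ideal.add_mem _ hcon.2 hsP
          rwa [sub_add_cancel] at this
        have h4 : (C (P.coeff D) : R) ∈ P' := by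
          have h5 := Ideal.sub_mem _ hh (h3 h2)
          have h6 : (h - (h - (C (P.coeff D) + X 0 * a + X 1 * b))) - X 0 * a - X 1 * b = (C (P.coeff D) : R) := by ring
          rw [← h6]
          exact Ideal.sub_mem _ (Ideal.sub_mem _ h5 (Ideal.mul_mem_right _ _ hX0)) (Ideal.mul_mem_right _ _ hX1)
        have hpp : Prime (p : ℤ) := Nat.prime_iff_prime_int.mp hp
        have hcop : IsCoprime (p : ℤ) (P.coeff D) := (hpp.coprime_iff_not_dvd).mpr hord
        obtain ⟨u, v, huv⟩ := hcop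
        apply hP'.ne_top
        rw [Ideal.eq_top_iff_one]
        have h7 : (1 : R) = C u * C (p : ℤ) + C v * C (P.coeff D) := by
          rw [← C_mul, ← C_mul, ← C_add, huv, C_1]
        rw [h7]
        exact Ideal.add_mem _ (Ideal.mul_mem_left _ _ hpP) (Ideal.mul_mem_left _ _ h4)
      have hJJ' : ∀ x ∈ J, ∀ t : R, t * x ∈ Ideal.span {X 0 * X 1 - C (q : ℤ), h} := by
        intro x hx t
        refine Ideal.mul_mem_left _ _ ?_
        revert hx
        suffices J ≤ Ideal.span {X 0 * X 1 - C (q : ℤ), h} from fun hx => this hx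
        rw [hJ, Ideal.span_le]
        rintro y (rfl | rfl | rfl)
        · exact Ideal.subset_span (by simp)
        · exact Ideal.mul_mem_right _ _ (Ideal.subset_span (by simp))
        · exact Ideal.mul_mem_right _ _ (Ideal.subset_span (by simp))
      refine ⟨Ideal.span {X 0 * X 1 - C (q : ℤ), h}, gorQ_h hq H, ?_⟩
      rcases key with hk | hk
      · refine ⟨_, hk, fun x hx => hJJ' x hx _, fun x hx => ?_⟩
        rw [Ideal.mem_span_pair] at hx
        obtain ⟨a, b, rfl⟩ := hx
        have : (X 0 - C s) * (a * (X 0 * X 1 - C (q : ℤ)) + b * h) =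
          ((X 0 - C s) * a) * (X 0 * X 1 - C (q : ℤ)) + b * (h * (X 0 - C s)) := by ring
        rw [this]
        exact Ideal.add_mem _ (Ideal.mul_mem_left _ _ m0) (Ideal.mul_mem_left _ _ m1)
      · refine ⟨_, hk, fun x hx => hJJ' x hx _, fun x hx => ?_⟩
        rw [Ideal.mem_span_pair] at hx
        obtain ⟨a, b, rfl⟩ := hx
        have : (X 1 - C s) * (a * (X 0 * X 1 - C (q : ℤ)) + b * h) =
          ((X 1 - C s) * a) * (X 0 * X 1 - C (q : ℤ)) + b * (h * (X 1 - C s)) := by ring
        rw [this]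
        exact Ideal.add_mem _ (Ideal.mul_mem_left _ _ m0) (Ideal.mul_mem_left _ _ m2)
    · -- case (b)
      have hsP : (C s : R) ∉ P' := by
        intro h1
        have h2 : (C s : R) * C s ∈ P' := Ideal.mul_mem_left _ _ h1
        rw [hCs, hqp] at h2
        push_cast at h2
        rw [C_pow] at h2
        exact hpP (hP'.mem_of_pow_mem _ h2)
      refine ⟨Ideal.span {X 0 * X 1 - C (q : ℤ), h * (X 0 - C s)}, gorQ_hF hq H s, C s, hsP, fun x hx => ?_,
        fun x hx => ?_⟩
      · have n0 : (X 0 * X 1 - C (q : ℤ) : R) ∈ Ideal.span {X 0 * X 1 - C (q : ℤ), h * (X 0 - C s)} :=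
          Ideal.subset_span (by simp)
        have n1 : (h * (X 0 - C s) : R) ∈ Ideal.span {X 0 * X 1 - C (q : ℤ), h * (X 0 - C s)} :=
          Ideal.subset_span (by simp)
        rw [hJ, Ideal.mem_span_insert] at hx
        obtain ⟨a, z, hz, rfl⟩ := hx
        rw [Ideal.mem_span_pair] at hz
        obtain ⟨b, c, rfl⟩ := hz
        have : C s * (a * (X 0 * X 1 - C (q : ℤ)) + (b * (h * (X 0 - C s)) + c * (h * (X 1 - C s)))) =
          (C s * a + c * h) * (X 0 * X 1 - C (q : ℤ)) + (C s * b - c * X 1) * (h * (X 0 - C s)) := by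
          rw [← hCs]; ring
        rw [this]
        exact Ideal.add_mem _ (Ideal.mul_mem_left _ _ n0) (Ideal.mul_mem_left _ _ n1)
      · rw [Ideal.mem_span_pair] at hx
        obtain ⟨a, b, rfl⟩ := hx
        exact Ideal.mul_mem_left _ _ (Ideal.add_mem _ (Ideal.mul_mem_left _ _ m0) (Ideal.mul_mem_left _ _ m1))
  · -- case (a)
    refine ⟨Ideal.span {X 0 - C s, X 1 - C s}, gorQ_point s, h, hh, fun x hx => ?_, fun x hx => ?_⟩
    · have n0 : (X 0 - C s : R) ∈ Ideal.span {X 0 - C s, X 1 - C s} := Ideal.subset_span (by simp)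
      have n1 : (X 1 - C s : R) ∈ Ideal.span {X 0 - C s, X 1 - C s} := Ideal.subset_span (by simp)
      refine Ideal.mul_mem_left _ _ ?_
      revert hx
      suffices J ≤ Ideal.span {X 0 - C s, X 1 - C s} from fun hx => this hx
      rw [hJ, Ideal.span_le]
      rintro y (rfl | rfl | rfl)
      · have : (X 0 * X 1 - C (q : ℤ) : R) = X 1 * (X 0 - C s) + C s * (X 1 - C s) := by rw [← hCs]; ring
        rw [SetLike.mem_coe, this]
        exact Ideal.add_mem _ (Ideal.mul_mem_left _ _ n0) (Ideal.mul_mem_left _ _ n1)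
      · exact Ideal.mul_mem_left _ _ n0
      · exact Ideal.mul_mem_left _ _ n1
    · rw [Ideal.mem_span_pair] at hx
      obtain ⟨a, b, rfl⟩ := hx
      have : h * (a * (X 0 - C s) + b * (X 1 - C s)) = a * (h * (X 0 - C s)) + b * (h * (X 1 - C s)) := by ring
      rw [this]
      exact Ideal.add_mem _ (Ideal.mul_mem_left _ _ m1) (Ideal.mul_mem_left _ _ m2)

end K944.WeilNum.SqGor
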